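import Cfsg.Agent.FGS.BG.Red

/-! A solution of `v₁ = v₂ ≠ 1` in `SL₃(3)`. -/

set_option autoImplicit false
set_option maxHeartbeats 400000

namespace CL.BG.L33x

open Matrix
open scoped MatrixGroups

/-- first generator -/
def x3 : SL(3, ZMod 3) := ⟨!![0, 0, 1; 0, 1, 0; 2, 0, 0], by rw [det_fin_three]; decide⟩
/-- second generator -/
def y3 : SL(3, ZMod 3) := ⟨!![1, 0, 1; 1, 1, 2; 2, 1, 1], by rw [det_fin_three]; decide⟩
/-- the value of the word -/
def v3 : SL(3, ZMod 3) := ⟨!![2, 2, 1; 1, 2, 0; 1, 1, 1], by rw [det_fin_three]; decide⟩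
/-- first conjugate -/
def a3 : SL(3, ZMod 3) := ⟨!![1, 1, 2; 0, 2, 2; 2, 1, 2], by rw [det_fin_three]; decide⟩
/-- second conjugate -/
def b3 : SL(3, ZMod 3) := ⟨!![1, 1, 2; 1, 2, 1; 0, 2, 2], by rw [det_fin_three]; decide⟩

theorem e1 : y3 * (x3 * (x3 * v3)) = x3 := Subtype.ext (by decide)
theorem e2 : x3 * v3 = a3 * x3 := Subtype.ext (by decide)
theorem e3 : y3 * v3 = b3 * y3 := Subtype.ext (by decide)
theorem e4 : a3 * b3 = v3 * b3 * a3 := Subtype.ext (by decide)
theorem e5 : v3 ≠ 1 := fun e => absurd (congrArg Subtype.val e) (by decide)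

theorem ni3 : Red.NI SL(3, ZMod 3) := by
  refine Red.NI.of_eq (x := x3) (y := y3) (v := v3) ?_ ?_ e5
  · conv_rhs => rhs; rw [← e1]
    group
  · rw [e2, e3, mul_inv_cancel_right, mul_inv_cancel_right, e4]
    group

theorem h33 (F : Type) [Field F] [Fintype F] (h : Fintype.card F = 3) :
    Red.NI (Matrix.SpecialLinearGroup (Fin 3) F) := by
  haveI : Fact (Nat.Prime 3) := ⟨Nat.prime_three⟩
  let e : ZMod 3 ≃+* F := ZMod.ringEquivOfPrime F Nat.prime_three h
  refine ni3.of_inj (Matrix.SpecialLinearGroup.map (e : ZMod 3 →+* F)) fun a b hab => ?_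
  ext i j
  exact e.injective (congrArg (fun g : SL(3, F) => g i j) hab)

end CL.BG.L33x
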