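import Mathlib

/-! The values of `t³ - 4 t` meet the values of `z + 1 / z` in many points. -/

set_option autoImplicit false

namespace CL.BG.OddA

open Finset

variable {F : Type*} [Field F] [Fintype F] [DecidableEq F]

theorem card_quad (a b c : F) (ha : a ≠ 0) :
    (univ.filter fun x : F => a * x ^ 2 + b * x + c = 0).card ≤ 2 := by
  by_contra h
  obtain ⟨x, y, z, hx, hy, hz, hxy, hxz, hyz⟩ := two_lt_card_iff.1 (not_le.1 h)
  simp only [mem_filter, mem_univ, true_and] at hx hy hz
  have e1 : a * (x + y) + b = 0 :=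
    mul_left_cancel₀ (sub_ne_zero.2 hxy) (by linear_combination hx - hy)
  have e2 : a * (x + z) + b = 0 :=
    mul_left_cancel₀ (sub_ne_zero.2 hxz) (by linear_combination hx - hz)
  exact hyz (mul_left_cancel₀ ha (by linear_combination e1 - e2))

/-- the values of `z + 1 / z` -/
theorem card_A : Fintype.card F ≤ 2 * ((univ.erase (0 : F)).image fun z => z + z⁻¹).card + 1 := by
  have h := card_le_mul_card_image (f := fun z : F => z + z⁻¹) (univ.erase (0 : F)) 2 fun c _ => by
    refine le_trans (card_le_card fun z hz => ?_) (card_quad (1 : F) (-c) 1 one_ne_zero)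
    simp only [mem_filter, mem_erase, mem_univ, and_true, true_and] at hz ⊢
    rw [← hz.2]; have := hz.1; field_simp; ring
  rw [card_erase_of_mem (mem_univ _), card_univ] at h
  omega

/-- the points of the conic -/
theorem card_C (h2 : (2 : F) ≠ 0) (h3 : (3 : F) ≠ 0) :
    (univ.filter fun p : F × F => p.1 ^ 2 + p.1 * p.2 + p.2 ^ 2 = 4).card ≤ Fintype.card F + 1 := by
  set C := univ.filter fun p : F × F => p.1 ^ 2 + p.1 * p.2 + p.2 ^ 2 = 4
  have key : ∀ p ∈ C.filter fun p => ¬ p.1 = 0,
      p.1 * (1 + (p.2 - 2) / p.1 + ((p.2 - 2) / p.1) ^ 2) + 2 * (1 + 2 * ((p.2 - 2) / p.1)) = 0 ∧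
        1 + (p.2 - 2) / p.1 + ((p.2 - 2) / p.1) ^ 2 ≠ 0 := fun p hp => by
    simp only [C, mem_filter, mem_univ, true_and] at hp
    have h0 := hp.2
    have e : p.1 * (1 + (p.2 - 2) / p.1 + ((p.2 - 2) / p.1) ^ 2) + 2 * (1 + 2 * ((p.2 - 2) / p.1)) = 0 := by
      field_simp
      linear_combination hp.1
    refine ⟨e, fun k => ?_⟩
    rw [k, mul_zero, zero_add] at e
    have e' := (mul_eq_zero.1 e).resolve_left h2
    exact h3 (by linear_combination 4 * k - (1 + 2 * ((p.2 - 2) / p.1)) * e')
  have h1 : (C.filter fun p => ¬ p.1 = 0).card ≤ (univ.erase (-(2 : F)⁻¹)).card := by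
    refine card_le_card_of_injOn (fun p => (p.2 - 2) / p.1) (fun p hp => ?_) fun p hp p' hp' e => ?_
    · obtain ⟨k1, k2⟩ := key p hp
      have h0 : p.1 ≠ 0 := (mem_filter.1 hp).2
      refine mem_coe.2 (mem_erase.2 ⟨fun e => ?_, mem_univ _⟩)
      have e' : 1 + 2 * ((p.2 - 2) / p.1) = 0 := by
        have e : (p.2 - 2) / p.1 = -(2 : F)⁻¹ := e
        rw [e]; field_simp; ring
      rw [e', mul_zero, add_zero] at k1
      exact mul_ne_zero h0 k2 k1
    · obtain ⟨k1, k2⟩ := key p hp
      obtain ⟨k1', -⟩ := key p' hp'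
      have e : (p.2 - 2) / p.1 = (p'.2 - 2) / p'.1 := e
      rw [← e] at k1'
      have e1 : p.1 = p'.1 := mul_right_cancel₀ k2 (by linear_combination k1 - k1')
      have h0 : p.1 ≠ 0 := (mem_filter.1 hp).2
      rw [← e1, div_left_inj' h0] at e
      exact Prod.ext e1 (by linear_combination e)
  have h0 : (C.filter fun p => p.1 = 0).card ≤ 2 := by
    refine le_trans (card_le_card_of_injOn (fun p => p.2) (fun p hp => ?_) fun p hp p' hp' e => ?_)
      (card_quad (1 : F) 0 (-4) one_ne_zero)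
    · simp only [C, coe_filter, mem_filter, mem_univ, true_and, Set.mem_setOf_eq] at hp ⊢
      have := hp.1
      rw [hp.2] at this
      linear_combination this
    · exact Prod.ext ((mem_filter.1 hp).2.trans (mem_filter.1 hp').2.symm) e
  have h4 := card_filter_add_card_filter_not (s := C) fun p => p.1 = 0
  rw [card_erase_of_mem (mem_univ _), card_univ] at h1
  have := Fintype.card_pos (α := F)
  omega

/-- the points whose fibre is not a single simple point -/
theorem card_T (h2 : (2 : F) ≠ 0) (h3 : (3 : F) ≠ 0) :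
    2 * (univ.filter fun s : F => ∃ t, s ^ 2 + s * t + t ^ 2 = 4).card ≤ Fintype.card F + 3 := by
  set T := univ.filter fun s : F => ∃ t, s ^ 2 + s * t + t ^ 2 = 4
  have hC := card_C h2 h3
  set C := univ.filter fun p : F × F => p.1 ^ 2 + p.1 * p.2 + p.2 ^ 2 = 4
  set D := univ.filter fun s : F => 3 * s ^ 2 + 0 * s + -16 = 0
  have hD : D.card ≤ 2 := card_quad _ _ _ h3
  have h1 : ∑ s ∈ T, (C.filter fun p => p.1 = s).card = C.card := by
    refine (card_eq_sum_card_fiberwise fun p hp => ?_).symm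
    simp only [C, T, coe_filter, mem_univ, true_and, Set.mem_setOf_eq] at hp ⊢
    exact ⟨_, hp⟩
  have h2' : ∀ s ∈ T, 2 ≤ (C.filter fun p => p.1 = s).card + if s ∈ D then 1 else 0 := fun s hs => by
    obtain ⟨t, ht⟩ := (mem_filter.1 hs).2
    have m1 : (s, t) ∈ C.filter fun p => p.1 = s := by simp [C, ht]
    split_ifs with hd
    · have := card_pos.2 ⟨_, m1⟩
      omega
    · have m2 : (s, -s - t) ∈ C.filter fun p => p.1 = s := by
        simp only [C, mem_filter, mem_univ, true_and, and_true]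
        linear_combination ht
      refine one_lt_card.2 ⟨_, m1, _, m2, fun e => hd ?_⟩
      have e' : t = -s - t := (Prod.ext_iff.1 e).2
      simp only [D, mem_filter, mem_univ, true_and]
      linear_combination 4 * ht - (s + 2 * t) * e'
  have h3' := sum_le_sum h2'
  rw [sum_add_distrib, h1, sum_const, smul_eq_mul, ← card_filter] at h3'
  have h4' : (T.filter fun s => s ∈ D).card ≤ D.card := card_le_card fun s hs => (mem_filter.1 hs).2
  omega

/-- the values of the cubic -/
theorem card_V (h2 : (2 : F) ≠ 0) (h3 : (3 : F) ≠ 0) :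
    2 * Fintype.card F ≤ 3 * (univ.image fun t : F => t ^ 3 - 4 * t).card + 3 := by
  have hT := card_T h2 h3
  set T := univ.filter fun s : F => ∃ t, s ^ 2 + s * t + t ^ 2 = 4 with hTd
  have inj : ∀ s, s ∉ T → ∀ t : F, s ^ 3 - 4 * s = t ^ 3 - 4 * t → s = t := fun s hs t e => by
    by_contra h
    refine hs (mem_filter.2 ⟨mem_univ _, t, ?_⟩)
    exact mul_left_cancel₀ (sub_ne_zero.2 h) (by linear_combination e)
  have h1 : (Tᶜ.image fun t : F => t ^ 3 - 4 * t).card = Tᶜ.card :=
    card_image_of_injOn fun s hs t _ e => inj s (mem_compl.1 hs) t e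
  have h4 : T.card ≤ 3 * (T.image fun t : F => t ^ 3 - 4 * t).card := by
    refine card_le_mul_card_image _ 3 fun c hc => ?_
    obtain ⟨s, -, rfl⟩ := mem_image.1 hc
    refine le_trans (card_le_card (t := insert s (univ.filter fun x : F => 1 * x ^ 2 + s * x + (s ^ 2 - 4) = 0))
      fun x hx => ?_) ((card_insert_le _ _).trans (Nat.succ_le_succ (card_quad _ _ _ one_ne_zero)))
    by_cases e : x = s
    · exact mem_insert.2 (Or.inl e)
    · refine mem_insert_of_mem (mem_filter.2 ⟨mem_univ _, ?_⟩)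
      exact mul_left_cancel₀ (sub_ne_zero.2 e) (by linear_combination (mem_filter.1 hx).2)
  have h5 : Disjoint (Tᶜ.image fun t : F => t ^ 3 - 4 * t) (T.image fun t : F => t ^ 3 - 4 * t) := by
    refine disjoint_left.2 fun c h h' => ?_
    obtain ⟨s, hs, rfl⟩ := mem_image.1 h
    obtain ⟨t, ht, e⟩ := mem_image.1 h'
    exact mem_compl.1 hs (inj s (mem_compl.1 hs) t e.symm ▸ ht)
  have h6 := card_union_of_disjoint h5
  rw [← image_union, union_comm, union_compl] at h6
  have h7 := card_add_card_compl T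
  omega

/-- A common value outside any small set. -/
theorem many (h2 : (2 : F) ≠ 0) (h3 : (3 : F) ≠ 0) (E : Finset F) (hE : 6 * E.card + 9 < Fintype.card F) :
    ∃ z t : F, z ≠ 0 ∧ z + z⁻¹ = t ^ 3 - 4 * t ∧ z + z⁻¹ ∉ E := by
  have hA := card_A (F := F)
  have hV := card_V h2 h3
  set A := (univ.erase (0 : F)).image fun z => z + z⁻¹
  set V := univ.image fun t : F => t ^ 3 - 4 * t
  have h1 := card_union_add_card_inter A V
  have h4 : (A ∪ V).card ≤ Fintype.card F := card_le_univ _
  obtain ⟨c, hc, hcE⟩ := exists_mem_notMem_of_card_lt_card (s := E) (t := A ∩ V) (by omega)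
  obtain ⟨z, hz, rfl⟩ := mem_image.1 (mem_inter.1 hc).1
  obtain ⟨t, -, e⟩ := mem_image.1 (mem_inter.1 hc).2
  exact ⟨z, t, (mem_erase.1 hz).1, e.symm, hcE⟩

end CL.BG.OddA
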