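import Cfsg.Agent.FGS.BG.OddA

/-! A good point on the curve `z + 1 / z = t³ - 4 t` in characteristic at least seven. -/

set_option autoImplicit false

namespace CL.BG.OddB

theorem big {F : Type*} [Field F] [Fintype F] (h2 : (2 : F) ≠ 0) (h3 : (3 : F) ≠ 0)
    (h : 27 < Fintype.card F) :
    ∃ z t : F, z ≠ 0 ∧ z ^ 2 ≠ 1 ∧ z ^ 2 ≠ -1 ∧ t ≠ 0 ∧ z ^ 2 + 1 = z * (t ^ 3 - 4 * t) := by
  classical
  have hE : ({0, 2, -2} : Finset F).card ≤ 3 := Finset.card_le_three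
  obtain ⟨z, t, hz, e, hn⟩ := OddA.many h2 h3 {0, 2, -2} (by omega)
  simp only [Finset.mem_insert, Finset.mem_singleton, not_or] at hn
  have hi : z * z⁻¹ = 1 := mul_inv_cancel₀ hz
  refine ⟨z, t, hz, fun k => ?_, fun k => hn.1 ?_, fun k => hn.1 ?_, ?_⟩
  · rcases mul_self_eq_one_iff.1 ((sq z).symm.trans k) with k | k
    · exact hn.2.1 (by rw [k]; norm_num)
    · exact hn.2.2 (by rw [k]; norm_num)
  · exact mul_left_cancel₀ hz (by linear_combination k + hi)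
  · rw [e, k]; ring
  · rw [← e]; linear_combination -hi

theorem zmod (p : ℕ) [hp : Fact p.Prime] (h : 7 ≤ p) :
    ∃ z t : ZMod p, z ≠ 0 ∧ z ^ 2 ≠ 1 ∧ z ^ 2 ≠ -1 ∧ t ≠ 0 ∧ z ^ 2 + 1 = z * (t ^ 3 - 4 * t) := by
  by_cases hb : 27 < p
  · refine big (fun e => ?_) (fun e => ?_) (by rwa [ZMod.card])
    · have := Nat.le_of_dvd two_pos ((ZMod.natCast_eq_zero_iff 2 p).1 (by exact_mod_cast e))
      omega
    · have := Nat.le_of_dvd three_pos ((ZMod.natCast_eq_zero_iff 3 p).1 (by exact_mod_cast e))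
      omega
  · have hp' := hp.out
    have : p = 7 ∨ p = 11 ∨ p = 13 ∨ p = 17 ∨ p = 19 ∨ p = 23 := by
      rw [not_lt] at hb
      interval_cases p <;> first | omega | exact absurd hp' (by norm_num)
    rcases this with rfl | rfl | rfl | rfl | rfl | rfl
    · exact ⟨2, 4, by decide +revert⟩
    · exact ⟨2, 1, by decide +revert⟩
    · exact ⟨2, 4, by decide +revert⟩
    · exact ⟨3, 7, by decide +revert⟩
    · exact ⟨3, 1, by decide +revert⟩
    · exact ⟨4, 18, by decide +revert⟩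

/-- any field of characteristic at least seven -/
theorem ex (F : Type*) [Field F] (p : ℕ) [hp : Fact p.Prime] [CharP F p] (h : 7 ≤ p) :
    ∃ z t : F, z ≠ 0 ∧ z ^ 2 ≠ 1 ∧ z ^ 2 ≠ -1 ∧ t ≠ 0 ∧ z + z⁻¹ = t ^ 3 - 4 * t := by
  obtain ⟨z, t, h0, h1, h2, h3, e⟩ := zmod p h
  let φ := ZMod.castHom (dvd_refl p) F
  have hz : φ z ≠ 0 := (map_ne_zero φ).2 h0
  refine ⟨φ z, φ t, hz, fun k => h1 (φ.injective ?_), fun k => h2 (φ.injective ?_), (map_ne_zero φ).2 h3,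
    mul_left_cancel₀ hz ?_⟩
  · rw [map_pow, k, map_one]
  · rw [map_pow, k, map_neg, map_one]
  · have := congrArg φ e
    simp only [map_add, map_mul, map_sub, map_pow, map_one, map_ofNat] at this
    rw [← this, mul_add, mul_inv_cancel₀ hz, sq]

/-- a field with a prime number of elements -/
theorem ex_card {F : Type*} [Field F] [Fintype F] {p : ℕ} (hp : p.Prime) (hF : Fintype.card F = p)
    (h : 7 ≤ p) : ∃ z t : F, z ≠ 0 ∧ z ^ 2 ≠ 1 ∧ z ^ 2 ≠ -1 ∧ t ≠ 0 ∧ z + z⁻¹ = t ^ 3 - 4 * t := by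
  have : Fact p.Prime := ⟨hp⟩
  have : CharP F p := charP_of_card_eq_prime hF
  exact ex F p h

end CL.BG.OddB
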