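import Cfsg.Agent.TECH.S2L.Minimal

/-! Reduction of the two-variable identity for solvable groups to the minimal simple groups. -/

set_option autoImplicit false
open Cfsg

namespace CL.BG.Red

variable {G H : Type*} [Group G] [Group H]

/-- The word `v_(n+1)`. -/
def vw (x y : G) (n : ℕ) : G :=
  @Nat.rec (fun _ => G) (x⁻¹ * x⁻¹ * y⁻¹ * x)
    (fun _ v => (x * v * x⁻¹) * (y * v * y⁻¹) * (x * v * x⁻¹)⁻¹ * (y * v * y⁻¹)⁻¹) n

theorem vw_zero (x y : G) : vw x y 0 = x⁻¹ * x⁻¹ * y⁻¹ * x := rfl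

theorem vw_succ (x y : G) (n : ℕ) : vw x y (n + 1) =
    (x * vw x y n * x⁻¹) * (y * vw x y n * y⁻¹) * (x * vw x y n * x⁻¹)⁻¹ * (y * vw x y n * y⁻¹)⁻¹ := rfl

theorem vw_map (f : G →* H) (x y : G) (n : ℕ) : f (vw x y n) = vw (f x) (f y) n := by
  induction n with
  | zero => simp [vw_zero]
  | succ n ih => simp [vw_succ, ih]

theorem vw_mem (x y : G) (n : ℕ) : vw x y n ∈ derivedSeries G n := by
  induction n with
  | zero => trivial
  | succ n ih =>
    have hn := derivedSeries_normal G n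
    exact Subgroup.commutator_mem_commutator (hn.conj_mem _ ih x) (hn.conj_mem _ ih y)

theorem of_solvable (h : Group.IsSolvable G) : ∃ n : ℕ, ∀ x y : G, vw x y n = 1 := by
  obtain ⟨n, hn⟩ := h.1
  exact ⟨n, fun x y => by simpa [hn] using vw_mem x y n⟩

/-- No `v_n` is an identity of `G`. -/
def NI (G : Type*) [Group G] : Prop := ∀ n : ℕ, ∃ x y : G, vw x y n ≠ 1

theorem NI.of_per {x y : G} (h : vw x y 1 = vw x y 0) (h1 : vw x y 0 ≠ 1) : NI G := by
  have : ∀ n, vw x y n = vw x y 0 := fun n => by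
    induction n with
    | zero => rfl
    | succ n ih => rw [vw_succ, ih, ← vw_succ]; exact h
  exact fun n => ⟨x, y, by rwa [this]⟩

/-- The explicit form: `[x v x⁻¹, y v y⁻¹] = v ≠ 1` for `v = x⁻² y⁻¹ x`. -/
theorem NI.of_eq {x y v : G} (hv : v = x⁻¹ * x⁻¹ * y⁻¹ * x)
    (h : (x * v * x⁻¹) * (y * v * y⁻¹) * (x * v * x⁻¹)⁻¹ * (y * v * y⁻¹)⁻¹ = v) (h1 : v ≠ 1) : NI G := by
  subst hv
  exact NI.of_per (x := x) (y := y) h h1

theorem NI.of_inj (h : NI G) (f : G →* H) (hf : Function.Injective f) : NI H := fun n => by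
  obtain ⟨x, y, e⟩ := h n
  exact ⟨f x, f y, fun e' => e (hf (by rw [vw_map, e', map_one]))⟩

theorem NI.of_surj (h : NI H) (f : G →* H) (hf : Function.Surjective f) : NI G := fun n => by
  obtain ⟨x, y, e⟩ := h n
  obtain ⟨x, rfl⟩ := hf x
  obtain ⟨y, rfl⟩ := hf y
  exact ⟨x, y, fun e' => e (by rw [← vw_map, e', map_one])⟩

theorem NI.of_equiv (h : NI H) (e : G ≃* H) : NI G := h.of_inj e.symm.toMonoidHom e.symm.injective

/-- Passing to the quotient by a central subgroup. -/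
theorem NI.of_central (h : NI G) (f : G →* H) (hf : f.ker ≤ Subgroup.center G) : NI H := fun n => by
  obtain ⟨x, y, e⟩ := h (n + 1)
  refine ⟨f x, f y, fun e' => e ?_⟩
  have h1 : vw x y n ∈ Subgroup.center G := hf (by rw [MonoidHom.mem_ker, vw_map, e'])
  have h2 := Subgroup.mem_center_iff.1 ((inferInstance : (Subgroup.center G).Normal).conj_mem _ h1 x)
    (y * vw x y n * y⁻¹)
  rw [vw_succ, ← h2]
  group

theorem NI.psl {n : ℕ} {F : Type*} [Field F] (h : NI (Matrix.SpecialLinearGroup (Fin n) F)) :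
    NI (Matrix.ProjectiveSpecialLinearGroup (Fin n) F) :=
  h.of_central (QuotientGroup.mk' _) (by rw [QuotientGroup.ker_mk'])

/-- The reduction to `SL₂(q)` (`q` on Thompson's list), `SL₃(3)` and `Sz(2^p)`. -/
theorem main [Finite G]
    (h2 : ∀ (F : Type) [Field F] [Fintype F] (r : ℕ), r.Prime → Fintype.card F = 2 ^ r →
      NI (Matrix.SpecialLinearGroup (Fin 2) F))
    (h3 : ∀ (F : Type) [Field F] [Fintype F] (r : ℕ), r.Prime → r ≠ 2 → Fintype.card F = 3 ^ r →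
      NI (Matrix.SpecialLinearGroup (Fin 2) F))
    (hp : ∀ (F : Type) [Field F] [Fintype F], (Fintype.card F).Prime → 5 ≤ Fintype.card F →
      NI (Matrix.SpecialLinearGroup (Fin 2) F))
    (h33 : ∀ (F : Type) [Field F] [Fintype F], Fintype.card F = 3 →
      NI (Matrix.SpecialLinearGroup (Fin 3) F))
    (hz : ∀ (F : Type) [Field F] [Fintype F] (m : ℕ), 1 ≤ m → (2 * m + 1).Prime →
      Fintype.card F = 2 ^ (2 * m + 1) → NI (Lie.Sz F (2 ^ (m + 1)))) :
    Group.IsSolvable G ↔ ∃ n : ℕ, ∀ x y : G, vw x y n = 1 := by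
  refine ⟨of_solvable, fun ⟨n, hn⟩ => by_contra fun hs => ?_⟩
  obtain ⟨K, -, -, hl⟩ := CL.S2L.exists_section hs
  have : NI (K ⧸ frattini K) := by
    rcases hl with ⟨F, _, _, h, ⟨e⟩⟩ | ⟨F, _, _, h, ⟨e⟩⟩ | ⟨F, _, _, m, hm, hr, h, ⟨e⟩⟩
    · refine NI.of_equiv (NI.psl ?_) e
      rcases h with ⟨r, hr, h⟩ | ⟨r, hr, h', h⟩ | ⟨hr, h, -⟩ | h
      · exact h2 F r hr h
      · exact h3 F r hr h' h
      · exact hp F hr h.le
      · exact hp F (by rw [h]; norm_num) h.ge
    · exact (h33 F h).psl.of_equiv e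
    · exact (hz F m hm hr h).of_equiv e
  obtain ⟨x, y, e⟩ := ((this.of_surj (QuotientGroup.mk' _) (QuotientGroup.mk'_surjective _)).of_inj
    K.subtype K.subtype_injective) n
  exact e (hn x y)

end CL.BG.Red
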