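import Cfsg.Agent.FGS.BG.Red
import Cfsg.Agent.FGS.BG.K3x
import Cfsg.Agent.FGS.BG.OddX
import Cfsg.Agent.FGS.BG.L33x

/-!
A point of the curve `z + z⁻¹ = s ^ 3 - 4 s` with `s ≠ 0` gives a periodic pair in `SL₂(F)`.
-/

set_option autoImplicit false

namespace CL.BG.SLx
open Matrix Polynomial CL.BG.Red

variable {F : Type*} [Field F]

theorem of_rel {G : Type*} [Group G] {x y X Y : G} (hx : x * X = 1) (hy : y * Y = 1)
    (h : X * y * X * Y * x * x = y * X * X * Y * x * Y) (h1 : y ≠ X) : NI G := by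
  obtain rfl : x⁻¹ = X := inv_eq_of_mul_eq_one_right hx
  obtain rfl : y⁻¹ = Y := inv_eq_of_mul_eq_one_right hy
  refine NI.of_eq (x := x) (y := y) rfl ?_ fun e => h1 ?_
  · have e := congrArg (fun g => x⁻¹ * x⁻¹ * x⁻¹ * y⁻¹ * x * x * g⁻¹) h
    simp only [mul_assoc, _root_.mul_inv_rev, inv_inv, mul_inv_cancel_left, inv_mul_cancel_left] at e ⊢
    exact e.symm
  · have e2 := congrArg (fun g => y * x * x * g * x⁻¹ * x⁻¹) e
    simp only [mul_assoc, mul_inv_cancel_left, mul_inv_cancel, mul_one, one_mul] at e2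
    exact e2.symm

/-- an element of `SL₂` from its entries -/
def mk (a b c d : F) (h : a * d - b * c = 1) : SpecialLinearGroup (Fin 2) F :=
  ⟨!![a, b; c, d], by rw [det_fin_two_of]; exact h⟩

theorem mk_mul {a b c d a' b' c' d' : F} (h : a * d - b * c = 1) (h' : a' * d' - b' * c' = 1) :
    mk a b c d h * mk a' b' c' d' h' =
      mk (a * a' + b * c') (a * b' + b * d') (c * a' + d * c') (c * b' + d * d')
        (by linear_combination (a' * d' - b' * c') * h + h') :=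
  Subtype.ext (mul_fin_two ..)

theorem mk_eq {a b c d a' b' c' d' : F} {h : a * d - b * c = 1} {h' : a' * d' - b' * c' = 1}
    (e1 : a = a') (e2 : b = b') (e3 : c = c') (e4 : d = d') : mk a b c d h = mk a' b' c' d' h' := by
  subst e1 e2 e3 e4; rfl

theorem one_eq : (1 : SpecialLinearGroup (Fin 2) F) = mk 1 0 0 1 (by ring) :=
  Subtype.ext one_fin_two

theorem core {s r u a b : F} (h1 : s * r - 1 = 0) (h2 : a * (s - r - a) - b * (s * a + b - u) - 1 = 0)
    (h3 : u ^ 2 - s ^ 2 * u + 2 * s ^ 2 - 4 + r ^ 2 = 0) : NI (SpecialLinearGroup (Fin 2) F) := by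
  refine of_rel (x := mk s (-1) 1 0 (by ring)) (X := mk 0 1 (-1) s (by ring))
    (y := mk a b (s * a + b - u) (s - r - a) (by linear_combination h2))
    (Y := mk (s - r - a) (-b) (-(s * a + b - u)) a (by linear_combination h2)) ?_ ?_ ?_ ?_
  · rw [mk_mul, one_eq]
    exact mk_eq (by ring) (by ring) (by ring) (by ring)
  · rw [mk_mul, one_eq]
    exact mk_eq (by linear_combination h2) (by ring) (by ring) (by linear_combination h2)
  · simp only [mk_mul]
    refine mk_eq ?_ ?_ ?_ ?_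
    · linear_combination ( (-1)*b*s^2 + (1)*b + (1)*u*s^2 + (-1)*u + (-1)*a*s + (-1)*s^4 + (1)*s^3*r + (2)*s^2 + (-1)*s*r + (-1) ) * h2 + ( (1)*a*s + (-1)*s^2 + (1) ) * h3 + ( (1)*b*u + (-1)*b*s^2 + (1)*b*s*r + (-1)*b + (2)*u*a*s + (-1)*u*s^2 + (1)*u + (-1)*a*s^3 + (1)*a*s^2*r + (-2)*a*s + (-1)*a*r + (3)*s^2 + (-3) ) * h1
    · linear_combination ( (1)*b*s^3 + (-2)*b*s + (-1)*u*s + (1)*a*s^2 + (-1)*a + (1)*s^3 + (-1)*s^2*r + (-1)*s ) * h2 + ( (1)*b*s + (1)*s ) * h3 + ( (1)*b*u*s + (-1)*b*s + (-1)*b*r + (-1)*u*a + (1)*u*s + (1)*a*s^2 + (-1)*a*s*r + (1)*a + (-3)*s ) * h1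
    · linear_combination ( (-1)*b*s + (2)*u*s + (-1)*a + (-2)*s^3 + (2)*s^2*r + (2)*s + (-1)*r ) * h2 + ( (1)*b*s + (-1)*u*s + (1)*a*s^2 + (-2)*s^2*r + (1)*s ) * h3 + ( (2)*b*u*s + (-1)*b*s^3 + (1)*b*s^2*r + (-2)*b*s + (-1)*b*r + (2)*u*a*s^2 + (-1)*u*a + (-1)*u*s^3 + (-1)*u*s^2*r + (2)*u*s + (-1)*a*s^4 + (1)*a*s^3*r + (-1)*a*s^2 + (-2)*a*s*r + (1)*a + (3)*s^3 + (2)*s^2*r + (1)*s*r^2 + (-6)*s + (1)*r ) * h1
    · linear_combination ( (1)*b*s^2 + (-1)*b + (-1)*u*s^2 + (1)*a*s + (1)*s^4 + (-1)*s^3*r + (-1)*s^2 + (1)*s*r + (-1) ) * h2 + ( (-1)*a*s + (1)*s^2 ) * h3 + ( (-1)*b*u + (1)*b*s^2 + (-1)*b*s*r + (1)*b + (-2)*u*a*s + (1)*u*s^2 + (1)*a*s^3 + (-1)*a*s^2*r + (2)*a*s + (1)*a*r + (-3)*s^2 + (1) ) * h1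
  · intro e
    have e0 : a = 0 := congrArg (fun M : SpecialLinearGroup (Fin 2) F => M.1 0 0) e
    have e1 : s - r - a = s := congrArg (fun M : SpecialLinearGroup (Fin 2) F => M.1 1 1) e
    exact one_ne_zero (α := F) (by linear_combination -h1 - s * e1 - s * e0)

theorem conic [Finite F] {s r u : F} (h1 : s * r - 1 = 0) (h3 : u ^ 2 - s ^ 2 * u + 2 * s ^ 2 - 4 + r ^ 2 = 0) :
    ∃ a b : F, a * (s - r - a) - b * (s * a + b - u) - 1 = 0 := by
  classical
  have := Fintype.ofFinite F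
  by_cases h2 : (2 : F) = 0
  · have hc : ringChar F = 2 := by
      have : CharP F 2 := (CharP.charP_iff_prime_eq_zero Nat.prime_two).2 (by exact_mod_cast h2)
      exact ringChar.eq F 2
    obtain ⟨b, hb⟩ := FiniteField.isSquare_of_char_two hc (u * r * (s - r - u * r) - 1)
    exact ⟨u * r, b, by linear_combination hb - b * u * h1⟩
  · have hc : ringChar F ≠ 2 := fun hc => h2 (by
      have := ringChar.Nat.cast_ringChar (R := F)
      rw [hc] at this
      exact_mod_cast this)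
    have hodd := FiniteField.odd_card_of_char_ne_two hc
    have key : ∀ A b : F, A ^ 2 + ((4 - s ^ 2) * b ^ 2 + (2 * s * (s - r) - 4 * u) * b + (4 - (s - r) ^ 2)) = 0 →
        ∃ a b : F, a * (s - r - a) - b * (s * a + b - u) - 1 = 0 := by
      intro A b h
      refine ⟨(A - s * b + (s - r)) / 2, b, ?_⟩
      field_simp
      linear_combination -h
    by_cases hs : 4 - s ^ 2 = 0
    · have hl : 2 * s * (s - r) - 4 * u ≠ 0 := by
        intro hl
        refine h2 (pow_eq_zero_iff (n := 3) (by norm_num) |>.1 ?_)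
        have hu : 4 * u = 6 := by linear_combination -hl - 2 * hs - 2 * h1
        have hr : 4 * r ^ 2 = 1 := by linear_combination r ^ 2 * hs + (s * r + 1) * h1
        linear_combination 16 * h3 + (32 - 16 * u) * hs - (4 * u - 10) * hu - 4 * hr
      refine key 0 (-(4 - (s - r) ^ 2) / (2 * s * (s - r) - 4 * u)) ?_
      rw [hs, mul_div_cancel₀ _ hl]
      ring
    · obtain ⟨A, b, h⟩ := FiniteField.exists_root_sum_quadratic (f := (X : F[X]) ^ 2)
        (g := C (4 - s ^ 2) * X ^ 2 + C (2 * s * (s - r) - 4 * u) * X + C (4 - (s - r) ^ 2))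
        (degree_X_pow 2) (degree_quadratic hs) hodd
      refine key A b ?_
      simpa only [eval_add, eval_mul, eval_pow, eval_X, eval_C] using h

theorem ni [Finite F] (s z : F) (hs : s ≠ 0) (hz : z ≠ 0) (h : z + z⁻¹ = s ^ 3 - 4 * s) :
    NI (SpecialLinearGroup (Fin 2) F) := by
  have h1 : s * s⁻¹ - 1 = 0 := by rw [mul_inv_cancel₀ hs, sub_self]
  have h3 : (2 + z * s⁻¹) ^ 2 - s ^ 2 * (2 + z * s⁻¹) + 2 * s ^ 2 - 4 + s⁻¹ ^ 2 = 0 := by
    have hz' : z * z⁻¹ = 1 := mul_inv_cancel₀ hz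
    generalize s⁻¹ = r at *
    generalize z⁻¹ = w at *
    linear_combination z * r ^ 2 * h - r ^ 2 * hz' + (z * r * s ^ 2 - 4 * z * r) * h1
  obtain ⟨a, b, h2⟩ := conic h1 h3
  exact core h1 h2 h3

theorem ni_odd [Finite F] (h2 : (2 : F) ≠ 0) (s z : F) (hz : z ≠ 0) (h : z + z⁻¹ = s ^ 3 - 4 * s) :
    NI (SpecialLinearGroup (Fin 2) F) := by
  by_cases hs : s = 0
  · exact ni 2 z h2 hz (by rw [h, hs]; norm_num)
  · exact ni s z hs hz h

theorem h2 (F : Type*) [Field F] [Fintype F] (r : ℕ) (hr : r.Prime) (hF : Fintype.card F = 2 ^ r) :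
    NI (SpecialLinearGroup (Fin 2) F) := by
  classical
  have h0 := FiniteField.cast_card_eq_zero F
  rw [hF, Nat.cast_pow] at h0
  have h2 : (2 : F) = 0 := by exact_mod_cast (pow_eq_zero_iff hr.ne_zero).1 h0
  by_cases hw : ∃ w : F, w ^ 2 + w + 1 = 0
  · obtain ⟨w, hw⟩ := hw
    have hw0 : w ≠ 0 := by rintro rfl; simp at hw
    refine ni 1 w one_ne_zero hw0 ?_
    field_simp
    linear_combination hw + w * h2
  · have hinj : Function.Injective fun x : F => x ^ 3 := by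
      intro x y e
      simp only at e
      by_cases hy : y = 0
      · subst hy
        simpa using e
      by_contra hne
      refine hw ⟨x / y, ?_⟩
      have : x ^ 2 + x * y + y ^ 2 = 0 :=
        mul_left_cancel₀ (sub_ne_zero.2 hne) (by linear_combination e)
      field_simp
      linear_combination this
    have hc : 2 < Fintype.card F := by
      rw [hF]
      exact (Nat.pow_lt_pow_right (by norm_num) hr.one_lt : 2 ^ 1 < 2 ^ r)
    obtain ⟨z, hz⟩ : ∃ z : F, z ∉ ({0, 1} : Finset F) :=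
      Finset.exists_mem_notMem_of_card_lt_card (t := Finset.univ) (Finset.card_le_two.trans_lt hc) |>.imp fun _ h => h.2
    have hz0 : z ≠ 0 := fun e => hz (by simp [e])
    have hz1 : z ≠ 1 := fun e => hz (by simp [e])
    obtain ⟨s, hs⟩ := Finite.surjective_of_injective hinj (z + z⁻¹)
    simp only at hs
    refine ni s z ?_ hz0 (by linear_combination -hs + 2 * s * h2)
    rintro rfl
    have hz' : z * z⁻¹ = 1 := mul_inv_cancel₀ hz0
    refine hz1 (sub_eq_zero.1 (pow_eq_zero_iff (n := 2) (by norm_num) |>.1 ?_))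
    linear_combination -z * hs - hz' - z * h2

theorem h3 (F : Type*) [Field F] [Fintype F] (r : ℕ) (hr : r.Prime) (hr2 : r ≠ 2) (hF : Fintype.card F = 3 ^ r) :
    NI (SpecialLinearGroup (Fin 2) F) := by
  have hn : 3 ≤ r := by have := hr.two_le; omega
  have := K3x.char3 hn hF
  have h3 : (3 : F) = 0 := by exact_mod_cast CharP.cast_eq_zero F 3
  obtain ⟨z, t, hz, -, h⟩ := K3x.ex hn hF
  exact ni_odd (fun h2 => one_ne_zero (α := F) (by linear_combination h3 - h2)) t z hz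
    (by linear_combination h + t * h3)

theorem hp (F : Type*) [Field F] [Fintype F] (hp : (Fintype.card F).Prime) (h5 : 5 ≤ Fintype.card F) :
    NI (SpecialLinearGroup (Fin 2) F) := by
  have key : ∀ k : ℕ, 0 < k → k < 5 → (k : F) ≠ 0 := by
    intro k hk hk5 h
    have : Fact (Fintype.card F).Prime := ⟨hp⟩
    have hc : CharP F (Fintype.card F) := (CharP.charP_iff_prime_eq_zero hp).2 (FiniteField.cast_card_eq_zero F)
    have := Nat.le_of_dvd hk ((CharP.cast_eq_zero_iff F (Fintype.card F) k).1 h)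
    omega
  have h2 : (2 : F) ≠ 0 := by exact_mod_cast key 2 (by norm_num) (by norm_num)
  have h3 : (3 : F) ≠ 0 := by exact_mod_cast key 3 (by norm_num) (by norm_num)
  obtain ⟨z, t, hz, -, h⟩ := OddX.ex h2 h3
  exact ni_odd h2 t z hz h

/-- Everything except the Suzuki groups. -/
theorem main {G : Type*} [Group G] [Finite G]
    (hz : ∀ (F : Type) [Field F] [Fintype F] (m : ℕ), 1 ≤ m → (2 * m + 1).Prime →
      Fintype.card F = 2 ^ (2 * m + 1) → NI (Cfsg.Lie.Sz F (2 ^ (m + 1)))) :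
    Group.IsSolvable G ↔ ∃ n : ℕ, ∀ x y : G, vw x y n = 1 :=
  Red.main (fun F _ _ => h2 F) (fun F _ _ => h3 F) (fun F _ _ => hp F) (fun F _ _ => L33x.h33 F) hz

end CL.BG.SLx
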