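import Mathlib

/-! Polynomials over the field with two elements in two variables as bit masks, and a quadratic extension. -/

set_option autoImplicit false

namespace CL.BG.SzQ

open Finset Matrix

/-- expressions in two variables -/
inductive Ex | z | o | v | w | ad (x y : Ex) | ml (x y : Ex)

instance : Add Ex := ⟨.ad⟩
instance : Mul Ex := ⟨.ml⟩

variable {F : Type*} [Field F]

/-- the value -/
def Ex.ev (v w : F) : Ex → F
  | .z => 0 | .o => 1 | .v => v | .w => w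
  | .ad x y => x.ev v w + y.ev v w
  | .ml x y => x.ev v w * y.ev v w

/-- a bound for the degree in the first variable -/
def Ex.dg : Ex → ℕ
  | .z => 0 | .o => 0 | .v => 1 | .w => 0
  | .ad x y => max x.dg y.dg
  | .ml x y => x.dg + y.dg

/-- the twist -/
def Ex.th : Ex → Ex
  | .z => .z | .o => .o | .v => .w | .w => .ml .v .v
  | .ad x y => .ad x.th y.th
  | .ml x y => .ml x.th y.th

theorem Ex.ev_add (v w : F) (x y : Ex) : (x + y).ev v w = x.ev v w + y.ev v w := rfl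
theorem Ex.ev_mul (v w : F) (x y : Ex) : (x * y).ev v w = x.ev v w * y.ev v w := rfl

theorem Ex.ev_th {θ : F →+* F} {v w : F} (h1 : θ v = w) (h2 : θ w = v * v) (e : Ex) :
    e.th.ev v w = θ (e.ev v w) := by
  induction e <;> simp [Ex.th, Ex.ev, *]

/-- forces evaluation -/
def frc {α : Type} (n : ℕ) (f : ℕ → α) : α := Nat.casesOn n (f 0) fun k => f (k + 1)
theorem frc_eq {α : Type} (n : ℕ) (f : ℕ → α) : frc n f = f n := by cases n <;> rfl

/-- multiplication of a bit mask by an expression -/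
def m1 : Ex → ℕ → ℕ
  | .z, _ => 0 | .o, n => n | .v, n => n <<< 1 | .w, n => n <<< 256
  | .ad x y, n => m1 x n ^^^ m1 y n
  | .ml x y, n => frc (m1 x n) (m1 y)

/-- the mask `n` represents `x` -/
inductive Rp (v w : F) : ℕ → ℕ → F → Prop
  | zero (d : ℕ) : Rp v w 0 d 0
  | mono (i j d : ℕ) (h : i ≤ d) : Rp v w (2 ^ (i + 256 * j)) d (v ^ i * w ^ j)
  | add {a b d : ℕ} {x y : F} : Rp v w a d x → Rp v w b d y → Rp v w (a ^^^ b) d (x + y)

variable {v w : F}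

theorem Rp.shift {n d : ℕ} {x : F} (h : Rp v w n d x) (i j : ℕ) {d' : ℕ} (hd : d + i ≤ d') :
    Rp v w (n <<< (i + 256 * j)) d' (x * (v ^ i * w ^ j)) := by
  induction h with
  | zero d => rw [Nat.zero_shiftLeft, zero_mul]; exact .zero _
  | mono i' j' d h =>
    rw [Nat.shiftLeft_eq, ← pow_add, show i' + 256 * j' + (i + 256 * j) = i' + i + 256 * (j' + j) by ring,
      mul_mul_mul_comm, ← pow_add, ← pow_add]
    exact .mono _ _ _ (by omega)
  | add _ _ ih ih' => rw [Nat.shiftLeft_xor_distrib, add_mul]; exact .add (ih hd) (ih' hd)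

theorem Rp.m1 (e : Ex) : ∀ {n d d' : ℕ} {x : F}, Rp v w n d x → d + e.dg ≤ d' →
    Rp v w (m1 e n) d' (x * e.ev v w) := by
  induction e with
  | z => intro n d d' x _ _; rw [Ex.ev, mul_zero]; exact .zero _
  | o => intro n d d' x h hd; have := h.shift 0 0 hd; rw [pow_zero, pow_zero, one_mul] at this; exact this
  | v => intro n d d' x h hd; have := h.shift 1 0 hd; rw [pow_one, pow_zero, mul_one] at this; exact this
  | w => intro n d d' x h hd; have := h.shift 0 1 hd; rw [pow_one, pow_zero, one_mul] at this; exact this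
  | ad x y ih ih' =>
    intro n d d' x h hd
    rw [Ex.dg] at hd
    rw [Ex.ev, mul_add]
    exact .add (ih h (by omega)) (ih' h (by omega))
  | ml x y ih ih' =>
    intro n d d' x h hd
    rw [Ex.dg] at hd
    rw [Ex.ev, ← mul_assoc]
    change Rp v w (frc _ _) _ _
    rw [frc_eq]
    exact ih' (ih h le_rfl) (by omega)

/-- the value of a mask -/
def evN (v w : F) (N n : ℕ) : F := ∑ i ∈ range N, if n.testBit i then v ^ (i % 256) * w ^ (i / 256) else 0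

variable [CharP F 2]

theorem Rp.eq {n d : ℕ} {x : F} (h : Rp v w n d x) (hd : d < 256) : ∃ N₀, ∀ N, N₀ ≤ N → evN v w N n = x := by
  induction h with
  | zero d => exact ⟨0, fun N _ => by simp [evN]⟩
  | mono i j d h =>
    refine ⟨i + 256 * j + 1, fun N hN => ?_⟩
    rw [evN, sum_eq_single (i + 256 * j) (fun b _ hb => by simp [hb.symm])
      fun h => absurd (mem_range.2 hN) h, if_pos (Nat.testBit_two_pow_self),
      show (i + 256 * j) % 256 = i by omega, show (i + 256 * j) / 256 = j by omega]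
  | @add a b d x y _ _ ih ih' =>
    obtain ⟨N1, h1⟩ := ih hd
    obtain ⟨N2, h2⟩ := ih' hd
    refine ⟨N1 + N2, fun N hN => ?_⟩
    rw [← h1 N (by omega), ← h2 N (by omega), evN, evN, evN, ← sum_add_distrib]
    refine sum_congr rfl fun i _ => ?_
    rw [Nat.testBit_xor]
    cases a.testBit i <;> cases b.testBit i <;> simp [CharTwo.add_self_eq_zero]

theorem Rp.uniq {n d : ℕ} {x y : F} (h : Rp v w n d x) (h' : Rp v w n d y) (hd : d < 256) : x = y := by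
  obtain ⟨N1, h1⟩ := h.eq hd
  obtain ⟨N2, h2⟩ := h'.eq hd
  rw [← h1 (N1 + N2) (by omega), h2 _ (by omega)]

omit [CharP F 2] in
theorem Rp.one (d : ℕ) : Rp v w 1 d 1 := by simpa using Rp.mono (v := v) (w := w) 0 0 d (Nat.zero_le _)

theorem ev_eq (v w : F) {x y : Ex} (h : m1 x 1 = m1 y 1 ∧ x.dg ≤ 255 ∧ y.dg ≤ 255) : x.ev v w = y.ev v w := by
  have h1 := (Rp.one (v := v) (w := w) 0).m1 x (d' := 255) (by omega)
  have h2 := (Rp.one (v := v) (w := w) 0).m1 y (d' := 255) (by omega)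
  rw [h.1] at h1
  simpa using h1.uniq h2 (by norm_num)

/-- multiplication in the quadratic extension -/
def m2 (c e : Ex × Ex) (p : ℕ × ℕ) : ℕ × ℕ :=
  frc (m1 e.2 p.2) fun s => frc (m1 e.1 p.1 ^^^ m1 c.1 s) fun a =>
    frc (m1 e.2 p.1 ^^^ m1 e.1 p.2 ^^^ m1 c.2 s) fun b => (a, b)

/-- addition in the quadratic extension -/
def a2 (p q : ℕ × ℕ) : ℕ × ℕ := frc (p.1 ^^^ q.1) fun a => frc (p.2 ^^^ q.2) fun b => (a, b)

/-- representation in the quadratic extension -/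
def R2 (v w b : F) (p : ℕ × ℕ) (d : ℕ) (x : F) : Prop :=
  ∃ x0 x1, Rp v w p.1 d x0 ∧ Rp v w p.2 d x1 ∧ x = x0 + x1 * b

/-- the value of a pair -/
def ev2 (v w b : F) (e : Ex × Ex) : F := e.1.ev v w + e.2.ev v w * b

/-- degree check -/
def ok (e : Ex × Ex) : Prop := e.1.dg ≤ 42 ∧ e.2.dg ≤ 12

instance (e : Ex × Ex) : Decidable (ok e) := inferInstanceAs (Decidable (_ ∧ _))

variable {b : F} {c : Ex × Ex}

omit [CharP F 2] in
theorem R2.add {p q : ℕ × ℕ} {d : ℕ} {x y : F} (h : R2 v w b p d x) (h' : R2 v w b q d y) :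
    R2 v w b (a2 p q) d (x + y) := by
  obtain ⟨x0, x1, h0, h1, rfl⟩ := h
  obtain ⟨y0, y1, k0, k1, rfl⟩ := h'
  rw [a2, frc_eq, frc_eq]
  exact ⟨_, _, h0.add k0, h1.add k1, by ring⟩

omit [CharP F 2] in
theorem R2.mul (hb : b * b = ev2 v w b c) (hc : c.1.dg ≤ 30 ∧ c.2.dg ≤ 30) {e : Ex × Ex} (he : ok e)
    {p : ℕ × ℕ} {d : ℕ} {x : F} (h : R2 v w b p d x) : R2 v w b (m2 c e p) (d + 42) (x * ev2 v w b e) := by
  obtain ⟨x0, x1, h0, h1, rfl⟩ := h
  obtain ⟨e1, e2⟩ := he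
  have hs := h1.m1 e.2 (d' := d + 12) (by omega)
  rw [m2, frc_eq, frc_eq, frc_eq]
  refine ⟨_, _, (h0.m1 e.1 (by omega)).add (hs.m1 c.1 (by omega)),
    ((h0.m1 e.2 (by omega)).add (h1.m1 e.1 (by omega))).add (hs.m1 c.2 (by omega)), ?_⟩
  simp only [ev2] at hb ⊢
  linear_combination x1 * e.2.ev v w * hb

theorem R2.uniq {p : ℕ × ℕ} {d : ℕ} {x y : F} (h : R2 v w b p d x) (h' : R2 v w b p d y) (hd : d < 256) :
    x = y := by
  obtain ⟨x0, x1, h0, h1, rfl⟩ := h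
  obtain ⟨y0, y1, k0, k1, rfl⟩ := h'
  rw [h0.uniq k0 hd, h1.uniq k1 hd]

/-- row vectors -/
structure V4 where
  (x0 x1 x2 x3 : ℕ × ℕ)
deriving DecidableEq

/-- triangular matrices -/
structure T4 where
  (m e1 e2 e3 f1 f2 : Ex × Ex)

/-- the matrix -/
def T4.mat (v w b : F) (t : T4) : Matrix (Fin 4) (Fin 4) F :=
  !![ev2 v w b t.m, ev2 v w b t.e1, ev2 v w b t.e2, ev2 v w b t.e3; 0, ev2 v w b t.m, ev2 v w b t.f1, ev2 v w b t.f2;
    0, 0, ev2 v w b t.m, ev2 v w b t.e1; 0, 0, 0, ev2 v w b t.m]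

/-- degree check -/
def T4.ok (t : T4) : Prop := SzQ.ok t.m ∧ SzQ.ok t.e1 ∧ SzQ.ok t.e2 ∧ SzQ.ok t.e3 ∧ SzQ.ok t.f1 ∧ SzQ.ok t.f2

instance (t : T4) : Decidable t.ok := inferInstanceAs (Decidable (_ ∧ _))

/-- forces a pair -/
def fp {α : Type} (p : ℕ × ℕ) (f : ℕ × ℕ → α) : α := frc p.1 fun a => frc p.2 fun b => f (a, b)
theorem fp_eq {α : Type} (p : ℕ × ℕ) (f : ℕ × ℕ → α) : fp p f = f p := by rw [fp, frc_eq, frc_eq]

/-- vector times matrix -/
def st (c : Ex × Ex) (t : T4) (x : V4) : V4 :=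
  fp (m2 c t.m x.x0) fun y0 => fp (a2 (m2 c t.e1 x.x0) (m2 c t.m x.x1)) fun y1 =>
  fp (a2 (a2 (m2 c t.e2 x.x0) (m2 c t.f1 x.x1)) (m2 c t.m x.x2)) fun y2 =>
  fp (a2 (a2 (a2 (m2 c t.e3 x.x0) (m2 c t.f2 x.x1)) (m2 c t.e1 x.x2)) (m2 c t.m x.x3)) fun y3 => ⟨y0, y1, y2, y3⟩

/-- reversal -/
def rv (x : V4) : V4 := ⟨x.x3, x.x2, x.x1, x.x0⟩

/-- representation of vectors -/
def R4 (v w b : F) (p : V4) (d : ℕ) (x : Fin 4 → F) : Prop :=
  R2 v w b p.x0 d (x 0) ∧ R2 v w b p.x1 d (x 1) ∧ R2 v w b p.x2 d (x 2) ∧ R2 v w b p.x3 d (x 3)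

omit [CharP F 2] in
theorem R4.st (hb : b * b = ev2 v w b c) (hc : c.1.dg ≤ 30 ∧ c.2.dg ≤ 30) {t : T4} (ht : t.ok)
    {p : V4} {d : ℕ} {x : Fin 4 → F} (h : R4 v w b p d x) :
    R4 v w b (st c t p) (d + 42) (x ᵥ* t.mat v w b) := by
  obtain ⟨h0, h1, h2, h3⟩ := h
  obtain ⟨k0, k1, k2, k3, k4, k5⟩ := ht
  rw [SzQ.st, fp_eq, fp_eq, fp_eq, fp_eq]
  refine ⟨?_, ?_, ?_, ?_⟩
  · convert h0.mul hb hc k0 using 1
    simp [T4.mat, vecMul, dotProduct, Fin.sum_univ_four]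
  · convert (h0.mul hb hc k1).add (h1.mul hb hc k0) using 1
    simp [T4.mat, vecMul, dotProduct, Fin.sum_univ_four]
  · convert ((h0.mul hb hc k2).add (h1.mul hb hc k4)).add (h2.mul hb hc k0) using 1
    simp [T4.mat, vecMul, dotProduct, Fin.sum_univ_four]
  · convert (((h0.mul hb hc k3).add (h1.mul hb hc k5)).add (h2.mul hb hc k1)).add (h3.mul hb hc k0) using 1
    simp [T4.mat, vecMul, dotProduct, Fin.sum_univ_four]

theorem R4.uniq {p : V4} {d : ℕ} {x y : Fin 4 → F} (h : R4 v w b p d x) (h' : R4 v w b p d y) (hd : d < 256) :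
    x = y := by
  funext i
  fin_cases i
  exacts [h.1.uniq h'.1 hd, h.2.1.uniq h'.2.1 hd, h.2.2.1.uniq h'.2.2.1 hd, h.2.2.2.uniq h'.2.2.2 hd]

end CL.BG.SzQ
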