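import Cfsg.Agent.FGS.BG.SzS1

/-! Stepanov's method for the Suzuki surface of S3935: existence of a point. -/

set_option autoImplicit false
set_option linter.unusedSectionVars false

namespace CL.BG.SzS

open Polynomial

variable {F : Type*} [Field F] [CharP F 2]

theorem sf_ne (l m : F[X]) (hl : l.eval 0 = 0) (hm : m.eval 0 = 0) : sf l m ≠ 0 := fun e => by
  have := congrArg (evalRingHom (0 : F)) e
  rw [map_sf] at this
  simp [hl, hm, sf, H, H1] at this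

theorem Cf_eq {K : Type*} [Field K] {l m m' : K} (t1 : sf l m ≠ 0) (t2 : sf l m' ≠ 0) :
    Cf l m m' = (sf l m * sf l m') ^ 2 * (ff l m + ff l m') := by
  simp only [Cf, ff]; field_simp; ring

theorem exists_Y (k : ℕ) : ∃ Y : F[X],
    Y ^ 2 + sf (X ^ 2 ^ k) X * sf (X ^ 2 ^ k) (X ^ 2 ^ (2 * k + 1)) * Y =
      Cf (X ^ 2 ^ k) X (X ^ 2 ^ (2 * k + 1)) ∧
    Y * (sf (X ^ 2 ^ k) X * H (X ^ 2 ^ k) X) ^ 2 ^ k =
      sf (X ^ 2 ^ k) X * sf (X ^ 2 ^ k) (X ^ 2 ^ (2 * k + 1)) * Zf k (X ^ 2 ^ k) X := by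
  let K := FractionRing F[X]
  let φ : F[X] →+* K := algebraMap F[X] K
  have hφ : Function.Injective φ := IsFractionRing.injective F[X] K
  haveI : CharP K 2 := charP_of_injective_algebraMap hφ 2
  have s1 : sf (X ^ 2 ^ k : F[X]) X ≠ 0 := sf_ne _ _ (by simp) (by simp)
  have s2 : sf (X ^ 2 ^ k : F[X]) (X ^ 2 ^ (2 * k + 1)) ≠ 0 := sf_ne _ _ (by simp) (by simp)
  have t1 : sf (φ X ^ 2 ^ k) (φ X) ≠ 0 := fun e => s1 (hφ (by rw [map_sf, map_pow, e, map_zero]))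
  have t2 : sf (φ X ^ 2 ^ k) (φ X ^ 2 ^ (2 * k + 1)) ≠ 0 := fun e =>
    s2 (hφ (by rw [map_sf, map_pow, map_pow, e, map_zero]))
  have g := gg_sq k (φ X) t1 t2
  set y : K := sf (φ X ^ 2 ^ k) (φ X) * sf (φ X ^ 2 ^ k) (φ X ^ 2 ^ (2 * k + 1)) *
    gg k (φ X ^ 2 ^ k) (φ X) with hy
  have q : y ^ 2 + φ (sf (X ^ 2 ^ k) X * sf (X ^ 2 ^ k) (X ^ 2 ^ (2 * k + 1))) * y =
      φ (Cf (X ^ 2 ^ k) X (X ^ 2 ^ (2 * k + 1))) := by
    rw [map_mul, map_sf, map_sf, map_Cf]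
    simp only [map_pow]
    have : Cf (φ X ^ 2 ^ k) (φ X) (φ X ^ 2 ^ (2 * k + 1)) =
        (sf (φ X ^ 2 ^ k) (φ X) * sf (φ X ^ 2 ^ k) (φ X ^ 2 ^ (2 * k + 1))) ^ 2 *
        (ff (φ X ^ 2 ^ k) (φ X) + ff (φ X ^ 2 ^ k) (φ X ^ 2 ^ (2 * k + 1))) := by
      exact Cf_eq t1 t2
    rw [this, ← g, hy]; ring
  have hi : IsIntegral F[X] y := by
    refine ⟨X ^ 2 + (C (sf (X ^ 2 ^ k) X * sf (X ^ 2 ^ k) (X ^ 2 ^ (2 * k + 1))) * X -
      C (Cf (X ^ 2 ^ k) X (X ^ 2 ^ (2 * k + 1)))), ?_, ?_⟩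
    · refine monic_X_pow_add ?_
      refine lt_of_le_of_lt (degree_sub_le _ _) (max_lt ?_ ?_)
      · exact lt_of_le_of_lt (degree_C_mul_X_le _) (by norm_num)
      · exact lt_of_le_of_lt degree_C_le (by norm_num)
    · simp only [eval₂_add, eval₂_sub, eval₂_mul, eval₂_pow, eval₂_X, eval₂_C]
      linear_combination q
  obtain ⟨Y, hY⟩ := IsIntegrallyClosed.isIntegral_iff.1 hi
  refine ⟨Y, hφ ?_, hφ ?_⟩
  · rw [map_add, map_pow, map_mul φ _ Y]
    change φ Y = y at hY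
    rw [hY]; exact q
  · change φ Y = y at hY
    simp only [map_mul, map_pow, map_sf, map_H, map_Zf, hY]
    rw [Zf_eq k t1, hy]; ring

theorem stepanov [Fintype F] {k : ℕ} (hk : 5 ≤ k) (hF : Fintype.card F = 2 ^ (2 * k + 1))
    (h : ∀ m : F, m ≠ 0 → sf (m ^ 2 ^ k) m ≠ 0 ∧ gg k (m ^ 2 ^ k) m = 0) : False := by
  classical
  obtain ⟨Y, h1, h2⟩ := exists_Y (F := F) k
  have h20 : (2 : F[X]) = 0 := CharTwo.two_eq_zero
  have ev : ∀ m : F, sf (m ^ 2 ^ k) m ≠ 0 →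
      Y.eval m = sf (m ^ 2 ^ k) m ^ 2 * gg k (m ^ 2 ^ k) m := fun m hs => by
    have e := congrArg (evalRingHom m) h2
    have hq : m ^ 2 ^ (2 * k + 1) = m := by rw [← hF]; exact FiniteField.pow_card m
    simp only [map_mul, map_pow, map_sf, map_H, map_Zf, coe_evalRingHom, eval_X, hq] at e
    rw [Zf_eq k hs] at e
    have hD : (sf (m ^ 2 ^ k) m * H (m ^ 2 ^ k) m) ^ 2 ^ k ≠ 0 :=
      pow_ne_zero _ (mul_ne_zero hs (left_ne_zero_of_mul hs))
    apply mul_right_cancel₀ hD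
    rw [e]; ring
  set r := 2 ^ k with hr
  set q := 2 ^ (2 * k + 1) with hq
  have hqr : q = 2 * (r * r) := by rw [hq, hr]; ring
  have hr32 : 32 ≤ r := by
    calc 32 = 2 ^ 5 := by norm_num
      _ ≤ 2 ^ k := Nat.pow_le_pow_right (by norm_num) hk
  have hbig : 45 * r + 30 < q := by rw [hqr]; nlinarith
  set x : F[X] := X ^ q - X with hx
  have d1 : x ∣ X * Y := by
    have e : x = ∏ a : F, (X - C a) := by
      have hm : (X ^ Fintype.card F - X : F[X]).Monic :=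
        monic_X_pow_sub (by rw [degree_X]; exact_mod_cast Fintype.one_lt_card)
      have := prod_multiset_X_sub_C_of_monic_of_roots_card_eq hm (by
        rw [FiniteField.roots_X_pow_card_sub_X,
          FiniteField.X_pow_card_sub_X_natDegree_eq F Fintype.one_lt_card]; rfl)
      rw [FiniteField.roots_X_pow_card_sub_X] at this
      rw [hx, ← hF]; exact this.symm
    rw [e]
    refine Finset.prod_dvd_of_coprime ((pairwise_coprime_X_sub_C Function.injective_id).set_pairwise _)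
      fun a _ => dvd_iff_isRoot.2 ?_
    by_cases ha : a = 0
    · simp [ha]
    · simp [ev a (h a ha).1, (h a ha).2]
  have xd : x.natDegree = q := by
    rw [hx, ← hF]; exact FiniteField.X_pow_card_sub_X_natDegree_eq F Fintype.one_lt_card
  have x0 : x ≠ 0 := fun e => by rw [e, natDegree_zero] at xd; omega
  have bl : (X ^ r : F[X]).natDegree ≤ r := by simp
  have bz : (X : F[X]).natDegree ≤ 1 := by simp
  have bq : (X ^ q : F[X]).natDegree ≤ q := by simp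
  have ds := (fil1 F).sf bl bz
  have ds' := (fil1 F).sf bl bq
  have dC := (fil1 F).Cf bl bz bq (by omega)
  have dA := (fil1 F).mul ds ds'
  have dY : Y.natDegree ≤ 10 * r + 3 + 3 * q := by
    by_contra hc
    have e : Y ^ 2 = sf (X ^ r) X * sf (X ^ r) (X ^ q) * Y + Cf (X ^ r) X (X ^ q) := by
      linear_combination h1 - (sf (X ^ r) X * sf (X ^ r) (X ^ q) * Y) * h20
    have e1 := congrArg natDegree e
    rw [natDegree_pow] at e1
    have e2 := natDegree_add_le (sf (X ^ r) X * sf (X ^ r) (X ^ q) * Y) (Cf (X ^ r) X (X ^ q))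
    have e3 : (sf (X ^ r) X * sf (X ^ r) (X ^ q) * Y).natDegree ≤ _ := natDegree_mul_le
    rw [← e1, le_max_iff] at e2
    omega
  have c1 : ∀ i, ((C (X ^ r) : F[X][X]).coeff i).natDegree ≤ r := fun i => by
    rw [coeff_C]; split_ifs <;> simp
  have c2 : ∀ i, ((C X : F[X][X]).coeff i).natDegree ≤ 1 := fun i => by
    rw [coeff_C]; split_ifs <;> simp
  have c3 : ∀ i, ((X : F[X][X]).coeff i).natDegree ≤ 1 := fun i => by
    rw [coeff_X]; split_ifs <;> simp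
  obtain ⟨U, W, hU, dU⟩ := trunc _ ((fil2 F).Vf c1 c2 ((fil2 F).add c2 c3)) x xd.le
  have hV : Vf (X ^ r) X (X ^ q) = U + x ^ 4 * W := by
    rw [← hU]
    have := map_Vf (evalRingHom x) (C (X ^ r)) (C X) (C X + X)
    simp only [coe_evalRingHom, eval_C, eval_add, eval_X] at this
    rw [this, hx]; congr 1; ring
  obtain ⟨δ, hδ⟩ : x ∣ sf (X ^ r) (X ^ q) - sf (X ^ r) X := by
    have := sub_dvd_eval_sub (X ^ q : F[X]) X (sf (C (X ^ r)) X)
    have e := fun a : F[X] => map_sf (evalRingHom a) (C (X ^ r)) X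
    simp only [coe_evalRingHom, eval_C, eval_X] at e
    rwa [e, e] at this
  have h4 : sf (X ^ r) (X ^ q) ^ 4 = sf (X ^ r) X ^ 4 + x ^ 4 * δ ^ 4 := by
    have : sf (X ^ r) (X ^ q) = sf (X ^ r) X + x * δ := by linear_combination hδ
    rw [this, ← mul_pow]; exact fr_add 2 _ _
  obtain ⟨Y1, hY1⟩ := d1
  have d4 : x ^ 4 ∣ X ^ 4 * (sf (X ^ r) X ^ 7 * Y - U) := by
    refine ⟨X ^ 4 * W + sf (X ^ r) (X ^ q) * Y1 ^ 4 - X ^ 4 * Y * sf (X ^ r) X ^ 3 * δ ^ 4, ?_⟩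
    have e4 : X ^ 4 * Y ^ 4 = x ^ 4 * Y1 ^ 4 := by rw [← mul_pow, hY1, mul_pow]
    rw [Vf, ← h1] at hV
    set s := sf (X ^ r : F[X]) X
    set s' := sf (X ^ r : F[X]) (X ^ q)
    linear_combination X ^ 4 * hV + s' * e4 - X ^ 4 * Y * s ^ 3 * h4 -
      X ^ 4 * s' * (Y ^ 4 + Y ^ 2 * (s * s') ^ 2 + Y ^ 3 * (s * s')) * h20
  have dz : (X ^ 4 * (sf (X ^ r) X ^ 7 * Y - U)).natDegree < (x ^ 4).natDegree := by
    have a1 : (sf (X ^ r : F[X]) X ^ 7 * Y).natDegree ≤ _ :=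
      (fil1 F).mul ((fil1 F).pow ds 7) dY
    have a2 := natDegree_sub_le (sf (X ^ r : F[X]) X ^ 7 * Y) U
    have a3 : (X ^ 4 * (sf (X ^ r) X ^ 7 * Y - U)).natDegree ≤ _ := natDegree_mul_le
    rw [natDegree_pow, natDegree_X] at a3
    rw [natDegree_pow, xd]
    rw [le_max_iff] at a2
    omega
  have z := eq_zero_of_dvd_of_natDegree_lt d4 dz
  have z1 : sf (X ^ r) X ^ 7 * Y - U = 0 :=
    (mul_eq_zero.1 z).resolve_left (pow_ne_zero _ X_ne_zero)
  have r0 : r ≠ 0 := by omega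
  have q0 : q ≠ 0 := by omega
  have s0 : sf ((0 : F) ^ r) 0 = 1 := by simp [sf, H, H1, r0]
  have y0 : Y.eval 0 = 1 := by
    rw [ev 0 (by rw [s0]; exact one_ne_zero), s0]
    simp [gg, A, ff, hh, hn, pf, r0, hr]
  have u0 : U.eval 0 = 0 := by
    have e := congrArg (evalRingHom (0 : F)) hV
    rw [map_Vf] at e
    simp [hx, q0, r0, Vf, Cf, pf] at e
    exact e.symm
  have e := congrArg (evalRingHom (0 : F)) z1
  simp only [map_sub, map_mul, map_pow, map_sf, coe_evalRingHom, eval_X, s0, y0, u0] at e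
  simp at e

theorem Fp_ne {n : ℕ} (h3 : ¬ 3 ∣ n) {l m : F} (hq : l ^ 2 ^ n = l) (l0 : l ≠ 0) (l1 : l ≠ 1)
    (hE : Fp l m = 0 → Ep l m = 0) : Fp l m ≠ 0 := fun e => by
  have h2 : (2 : F) = 0 := CharTwo.two_eq_zero
  have e' := hE e
  simp only [Fp, Ep] at e e'
  have c : l ^ 2 * (l ^ 3 + l ^ 2 + 1) = 0 := by
    linear_combination (1 + l) ^ 2 * e' - (m + l ^ 2 + l * m + l ^ 2 * (1 + l)) * e +
      (-(l ^ 3) + 2 * m * l ^ 2 + 2 * m * l ^ 3 + l ^ 4 * 1 + l ^ 5 - m * l ^ 2 - m * l ^ 3) * h2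
  have c1 : l ^ 3 + l ^ 2 + 1 = 0 := (mul_eq_zero.1 c).resolve_left (pow_ne_zero _ l0)
  have c8 : l ^ 8 = l := by
    linear_combination (l ^ 5 + l ^ 4 + l ^ 3 + l) * c1 -
      (l ^ 7 + l ^ 6 + l ^ 5 + l ^ 4 + l ^ 3 + l) * h2
  have cj : ∀ j, l ^ 2 ^ (3 * j) = l := fun j => by
    induction j with
    | zero => simp
    | succ j ih => rw [Nat.mul_succ, pow_add, pow_mul, ih]; exact c8
  have hn : n = 3 * (n / 3) + 1 ∨ n = 3 * (n / 3) + 2 := by omega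
  rcases hn with hn | hn
  · rw [hn, pow_add, pow_mul, cj] at hq
    have : l * (l - 1) = 0 := by linear_combination hq
    rcases mul_eq_zero.1 this with h | h
    · exact l0 h
    · exact l1 (sub_eq_zero.1 h)
  · rw [hn, pow_add, pow_mul, cj] at hq
    have : l ^ 3 = 0 := by linear_combination l * c1 - hq - l * h2
    exact l0 (pow_eq_zero_iff (by norm_num) |>.1 this)

/-- a point `(l, t)` of the Suzuki curve, `θ = 2 ^ (k + 1)`, `m = l ^ θ` -/
theorem exists_lt [Fintype F] {k : ℕ} (hk : 5 ≤ k) (hF : Fintype.card F = 2 ^ (2 * k + 1))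
    (h3 : ¬ 3 ∣ 2 * k + 1) : ∃ l m t : F, l ≠ 0 ∧ l ≠ 1 ∧ l ^ 2 ^ (k + 1) = m ∧
      m ^ 2 ^ (k + 1) = l ^ 2 ∧ Fp l m ≠ 0 ∧
      Fp l m * t ^ 2 ^ (k + 1) + H l m * t + m * Fp l m = 0 := by
  by_contra hne
  have h2 : (2 : F) = 0 := CharTwo.two_eq_zero
  haveI : Fact (Nat.Prime 2) := ⟨Nat.prime_two⟩
  have hq : ∀ x : F, x ^ 2 ^ (2 * k + 1) = x := fun x => by
    rw [← hF]; exact FiniteField.pow_card x
  refine stepanov hk hF fun m hm => ?_
  by_cases m1 : m = 1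
  · have t3 : (1 : F) + 1 + 1 = 1 := by linear_combination h2
    have t2 : (1 : F) + 1 = 0 := by linear_combination h2
    subst m1
    simp [sf, H, H1, gg, A, ff, hh, hn, pf, Fp, Ep, t2]
  set l := m ^ 2 ^ k with hl
  have lt : l ^ 2 ^ (k + 1) = m := by
    rw [hl, ← pow_mul, ← pow_add, show k + (k + 1) = 2 * k + 1 by ring, hq]
  have mt : m ^ 2 ^ (k + 1) = l ^ 2 := by rw [hl, pow_succ, pow_mul]
  have l0 : l ≠ 0 := pow_ne_zero _ hm
  have l1 : l ≠ 1 := fun e => m1 (by rw [← lt, e, one_pow])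
  let φ : F →+* F := iterateFrobenius F 2 (k + 1)
  have hφ : ∀ x, φ x = x ^ 2 ^ (k + 1) := fun x => iterateFrobenius_def 2 (k + 1) x
  have φl : φ l = m := by rw [hφ, lt]
  have φm : φ m = l ^ 2 := by rw [hφ, mt]
  have φH : φ (H l m) = H1 l m := by rw [map_H, φl, φm, H_th]
  have φH1 : φ (H1 l m) = H l m ^ 2 := by
    rw [← H1_th]; simp only [H1, map_add, map_mul, map_pow, map_one, φl, φm]
  have φF : φ (Fp l m) = Ep l m := by
    rw [← F_th]; simp only [Fp, map_add, map_mul, map_pow, φl, φm]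
  have φE : φ (Ep l m) = Fp l m ^ 2 := by
    rw [← E_th]; simp only [Ep, map_add, map_mul, map_pow, φl, φm]
  have F0 : Fp l m ≠ 0 := Fp_ne h3 (hq l) l0 l1 fun e => by rw [← φF, e, map_zero]
  have E0 : Ep l m ≠ 0 := by rw [← φF]; exact (map_ne_zero φ).2 F0
  have H0 : H l m ≠ 0 := fun e =>
    hne ⟨l, m, l, l0, l1, lt, mt, F0, by rw [lt, e]; linear_combination (m * Fp l m) * h2⟩
  have H10 : H1 l m ≠ 0 := by rw [← φH]; exact (map_ne_zero φ).2 H0
  have s0 : sf l m ≠ 0 := mul_ne_zero H0 H10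
  refine ⟨s0, ?_⟩
  have g := gg_sq k m s0 (by rw [hq]; exact s0)
  rw [hq, ← hl] at g
  by_contra g0
  have g1 : gg k l m = 1 := by
    have : gg k l m * (gg k l m - 1) = 0 := by
      linear_combination g + (ff l m - gg k l m) * h2
    exact sub_eq_zero.1 ((mul_eq_zero.1 this).resolve_left g0)
  have hs : ∀ y : F, A (k + 1) y = A k y + y ^ 2 ^ k := fun y => by
    simp [A, Finset.sum_range_succ]
  have ht : hh l m ^ 2 ^ (k + 1) = hh m (l ^ 2) := by rw [hh_pow, lt, mt]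
  have w : φ (A (k + 1) (hh l m)) = A (k + 1) (hh l m) + hh l m := by
    rw [hφ, A_pow, hs, hs, ← pow_mul, ← pow_add, show k + 1 + k = 2 * k + 1 by ring, hq, ht]
    rw [gg, ff_eq s0, A_add] at g1
    linear_combination g1 - (A k (hh l m) + hh l m ^ 2 ^ k) * h2
  refine hne ⟨l, m, H l m * H1 l m / (Fp l m * Ep l m) * A (k + 1) (hh l m), l0, l1, lt, mt, F0, ?_⟩
  rw [← hφ, map_mul, map_div₀, map_mul, map_mul, φH, φH1, φF, φE, w]
  generalize A (k + 1) (hh l m) = a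
  simp only [hh, hn, sf]
  field_simp
  linear_combination (H1 l m * H l m ^ 2 * a + m * Fp l m ^ 2 * Ep l m) * h2

end CL.BG.SzS
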