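import Mathlib

/-! Stepanov's method for the Suzuki surface of S3935: algebraic part. -/

set_option autoImplicit false
set_option linter.unusedSectionVars false

namespace CL.BG.SzS

open Polynomial

section defs
variable {S : Type*} [CommRing S]
def H (l m : S) : S := 1 + l * m + m ^ 2
def H1 (l m : S) : S := 1 + m * l ^ 2 + l ^ 4
def Fp (l m : S) : S := m + l ^ 2 + l * m
def Ep (l m : S) : S := l ^ 2 + m ^ 2 + m * l ^ 2
def sf (l m : S) : S := H l m * H1 l m
def pf (l m : S) : S := (m + l ^ 4) * Ep l m * Fp l m ^ 2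
def hn (l m : S) : S := m * Fp l m ^ 2 * Ep l m
def Cf (l m m' : S) : S := pf l m' * sf l m ^ 2 + pf l m * sf l m' ^ 2
def Vf (l m m' : S) : S :=
  sf l m' * (Cf l m m' * (sf l m * sf l m') ^ 2 + Cf l m m' ^ 2)
def Zf (k : ℕ) (l m : S) : S :=
  ∑ i ∈ Finset.range k, pf l m ^ 2 ^ i * sf l m ^ (2 ^ k - 2 ^ (i + 1)) * H l m ^ 2 ^ k +
    hn l m ^ 2 ^ k + (sf l m * H l m) ^ 2 ^ k
def A (k : ℕ) (x : S) : S := ∑ i ∈ Finset.range k, x ^ 2 ^ i

variable {T : Type*} [CommRing T] (φ : S →+* T)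
theorem map_H (l m : S) : φ (H l m) = H (φ l) (φ m) := by simp [H]
theorem map_sf (l m : S) : φ (sf l m) = sf (φ l) (φ m) := by simp [sf, H, H1]
theorem map_pf (l m : S) : φ (pf l m) = pf (φ l) (φ m) := by simp [pf, Ep, Fp]
theorem map_hn (l m : S) : φ (hn l m) = hn (φ l) (φ m) := by simp [hn, Ep, Fp]
theorem map_Cf (l m m' : S) : φ (Cf l m m') = Cf (φ l) (φ m) (φ m') := by
  simp [Cf, map_sf, map_pf]
theorem map_Vf (l m m' : S) : φ (Vf l m m') = Vf (φ l) (φ m) (φ m') := by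
  simp [Vf, map_sf, map_Cf]
theorem map_Zf (k : ℕ) (l m : S) : φ (Zf k l m) = Zf k (φ l) (φ m) := by
  simp [Zf, map_sf, map_pf, map_hn, map_H]

/-- a filtration -/
structure Fil (B : ℕ → S → Prop) : Prop where
  one : B 0 1
  add : ∀ {a x y}, B a x → B a y → B a (x + y)
  mul : ∀ {a b x y}, B a x → B b y → B (a + b) (x * y)
  mono : ∀ {a b x}, B a x → a ≤ b → B b x

namespace Fil
variable {B : ℕ → S → Prop} (h : Fil B)
include h
theorem pow {a : ℕ} {x : S} (hx : B a x) (n : ℕ) : B (n * a) (x ^ n) := by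
  induction n with
  | zero => simpa using h.one
  | succ n ih => rw [pow_succ, Nat.succ_mul]; exact h.mul ih hx
variable {a e : ℕ} {l m m' : S}
theorem sf (hl : B a l) (hm : B e m) : B (5 * a + 3 * e) (sf l m) := by
  have h1 : B (a + 2 * e) (H l m) :=
    h.add (h.add (h.mono h.one (by omega)) (h.mono (h.mul hl hm) (by omega)))
      (h.mono (h.pow hm 2) (by omega))
  have h2 : B (4 * a + e) (H1 l m) :=
    h.add (h.add (h.mono h.one (by omega)) (h.mono (h.mul hm (h.pow hl 2)) (by omega)))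
      (h.mono (h.pow hl 4) (by omega))
  exact h.mono (h.mul h1 h2) (by omega)
theorem pf (hl : B a l) (hm : B e m) : B (10 * a + 5 * e) (pf l m) := by
  have h1 : B (4 * a + e) (m + l ^ 4) :=
    h.add (h.mono hm (by omega)) (h.mono (h.pow hl 4) (by omega))
  have h2 : B (2 * a + 2 * e) (Ep l m) :=
    h.add (h.add (h.mono (h.pow hl 2) (by omega)) (h.mono (h.pow hm 2) (by omega)))
      (h.mono (h.mul hm (h.pow hl 2)) (by omega))
  have h3 : B (2 * a + e) (Fp l m) :=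
    h.add (h.add (h.mono hm (by omega)) (h.mono (h.pow hl 2) (by omega)))
      (h.mono (h.mul hl hm) (by omega))
  exact h.mono (h.mul (h.mul h1 h2) (h.pow h3 2)) (by omega)
theorem Cf {e' : ℕ} (hl : B a l) (hm : B e m) (hm' : B e' m') (he : e ≤ e') :
    B (20 * a + 5 * e + 6 * e') (Cf l m m') :=
  h.add (h.mono (h.mul (h.pf hl hm') (h.pow (h.sf hl hm) 2)) (by omega))
    (h.mono (h.mul (h.pf hl hm) (h.pow (h.sf hl hm') 2)) (by omega))
theorem Vf (hl : B a l) (hm : B 1 m) (hm' : B 1 m') : B (45 * a + 26) (Vf l m m') := by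
  have hc := h.Cf hl hm hm' le_rfl
  have h1 : B (40 * a + 23) _ :=
    h.add (h.mono (h.mul hc (h.pow (h.mul (h.sf hl hm) (h.sf hl hm')) 2)) (by omega))
      (h.mono (h.pow hc 2) (by omega))
  exact h.mono (h.mul (h.sf hl hm') h1) (by omega)
end Fil
end defs

theorem fil1 (F : Type*) [Field F] : Fil (fun (b : ℕ) (P : F[X]) => P.natDegree ≤ b) where
  one := by simp
  add := fun hx hy => (natDegree_add_le _ _).trans (max_le hx hy)
  mul := fun hx hy => natDegree_mul_le.trans (add_le_add hx hy)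
  mono := fun hx hab => hx.trans hab

theorem fil2 (F : Type*) [Field F] :
    Fil (fun (b : ℕ) (P : F[X][X]) => ∀ i, (P.coeff i).natDegree ≤ b) where
  one := fun i => by rw [coeff_one]; split_ifs <;> simp
  add := fun hx hy i => by
    rw [coeff_add]; exact (natDegree_add_le _ _).trans (max_le (hx i) (hy i))
  mul := fun hx hy i => by
    rw [coeff_mul]
    exact natDegree_sum_le_of_forall_le _ _ fun c _ =>
      natDegree_mul_le.trans (add_le_add (hx _) (hy _))
  mono := fun hx hab i => (hx i).trans hab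

theorem trunc {F : Type*} [Field F] {b d : ℕ} (P : F[X][X]) (hP : ∀ i, (P.coeff i).natDegree ≤ b)
    (x : F[X]) (hx : x.natDegree ≤ d) :
    ∃ U W : F[X], P.eval x = U + x ^ 4 * W ∧ U.natDegree ≤ b + 3 * d := by
  have h : (X : F[X][X]) ^ 4 ∣ P - ∑ i ∈ Finset.range 4, monomial i (P.coeff i) := by
    rw [X_pow_dvd_iff]
    intro j hj
    simp [coeff_monomial, Finset.sum_ite_eq', hj]
  obtain ⟨W, hW⟩ := h
  refine ⟨∑ i ∈ Finset.range 4, P.coeff i * x ^ i, W.eval x, ?_, ?_⟩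
  · have := congrArg (eval x) hW
    simp only [eval_sub, eval_finsetSum, eval_monomial, eval_mul, eval_pow, eval_X] at this
    linear_combination this
  · refine natDegree_sum_le_of_forall_le _ _ fun i hi => natDegree_mul_le.trans ?_
    have h1 : (x ^ i).natDegree ≤ i * d := natDegree_pow_le.trans (Nat.mul_le_mul_left _ hx)
    have h2 := Finset.mem_range.1 hi
    have h3 : i * d ≤ 3 * d := Nat.mul_le_mul_right _ (by omega)
    have := hP i
    omega

section char2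
variable {K : Type*} [CommRing K] [CharP K 2]

theorem A_sq (k : ℕ) (x : K) : A k x ^ 2 + A k x = x ^ 2 ^ k + x := by
  have h2 : (2 : K) = 0 := CharTwo.two_eq_zero
  induction k with
  | zero => simp [A]; linear_combination (-x) * h2
  | succ k ih =>
    have : A (k + 1) x = A k x + x ^ 2 ^ k := by simp [A, Finset.sum_range_succ]
    rw [this, pow_succ 2 k, pow_mul]
    linear_combination ih + (A k x * x ^ 2 ^ k + x ^ 2 ^ k) * h2

theorem fr_add (j : ℕ) (x y : K) : (x + y) ^ 2 ^ j = x ^ 2 ^ j + y ^ 2 ^ j :=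
  haveI : Fact (Nat.Prime 2) := ⟨Nat.prime_two⟩
  add_pow_char_pow x y 2 j

theorem A_add (k : ℕ) (x y : K) : A k (x + y) = A k x + A k y := by
  simp [A, fr_add, Finset.sum_add_distrib]

theorem A_pow (k j : ℕ) (x : K) : A k x ^ 2 ^ j = A k (x ^ 2 ^ j) := by
  induction k with
  | zero => simp [A]
  | succ k ih =>
    have : ∀ y : K, A (k + 1) y = A k y + y ^ 2 ^ k := fun y => by simp [A, Finset.sum_range_succ]
    rw [this, this, fr_add, ih, ← pow_mul, ← pow_mul, mul_comm]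

theorem H_th (l m : K) : H m (l ^ 2) = H1 l m := by simp only [H, H1]; ring
theorem H1_th (l m : K) : H1 m (l ^ 2) = H l m ^ 2 := by
  have h2 : (2 : K) = 0 := CharTwo.two_eq_zero
  simp only [H, H1]; linear_combination (-(l * m) - m ^ 2 - l * m ^ 3) * h2
theorem F_th (l m : K) : Fp m (l ^ 2) = Ep l m := by simp only [Fp, Ep]
theorem E_th (l m : K) : Ep m (l ^ 2) = Fp l m ^ 2 := by
  have h2 : (2 : K) = 0 := CharTwo.two_eq_zero
  simp only [Fp, Ep]; linear_combination (-(m * l ^ 2) - l * m ^ 2 - l ^ 3 * m) * h2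
end char2

section field
variable {K : Type*} [Field K]

/-- `h` -/
def hh (l m : K) : K := hn l m / (sf l m * H l m)
/-- `f` -/
def ff (l m : K) : K := pf l m / sf l m ^ 2
/-- `g` -/
def gg (k : ℕ) (l m : K) : K := A k (ff l m) + hh l m ^ 2 ^ k + 1

theorem Zf_eq (k : ℕ) {l m : K} (hs : sf l m ≠ 0) :
    Zf k l m = (sf l m * H l m) ^ 2 ^ k * gg k l m := by
  have hH : H l m ≠ 0 := left_ne_zero_of_mul hs
  simp only [Zf, gg, A, hh, ff, mul_add, Finset.mul_sum, mul_one]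
  congr 2
  · refine Finset.sum_congr rfl fun i hi => ?_
    have h1 : 2 ^ (i + 1) ≤ 2 ^ k := Nat.pow_le_pow_right (by norm_num) (Finset.mem_range.1 hi)
    obtain ⟨d, hd⟩ := Nat.exists_eq_add_of_le h1
    rw [hd, Nat.add_sub_cancel_left, div_pow, ← pow_mul, ← pow_succ', mul_pow, pow_add (sf l m)]
    field_simp
  · rw [div_pow]; field_simp

variable [CharP K 2]

theorem ff_eq {l m : K} (hs : sf l m ≠ 0) : ff l m = hh l m + hh m (l ^ 2) := by
  have h2 : (2 : K) = 0 := CharTwo.two_eq_zero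
  have hH : H l m ≠ 0 := left_ne_zero_of_mul hs
  have hH1 : H1 l m ≠ 0 := right_ne_zero_of_mul hs
  simp only [ff, hh, hn, sf, pf, H_th, H1_th, F_th, E_th]
  field_simp
  have : m + l ^ 4 = m * H1 l m + l ^ 2 * Ep l m := by
    simp only [H1, Ep]; linear_combination (-(m ^ 2 * l ^ 2) - m * l ^ 4) * h2
  rw [this]; ring

theorem hh_pow (j : ℕ) (l m : K) : hh l m ^ 2 ^ j = hh (l ^ 2 ^ j) (m ^ 2 ^ j) := by
  haveI : Fact (Nat.Prime 2) := ⟨Nat.prime_two⟩
  have := fun x : K => (iterateFrobenius_def 2 j x)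
  simp only [← this, hh, map_div₀, map_mul, map_hn, map_sf, map_H]

theorem gg_sq (k : ℕ) (m : K) (hs : sf (m ^ 2 ^ k) m ≠ 0)
    (hs' : sf (m ^ 2 ^ k) (m ^ 2 ^ (2 * k + 1)) ≠ 0) :
    gg k (m ^ 2 ^ k) m ^ 2 + gg k (m ^ 2 ^ k) m =
      ff (m ^ 2 ^ k) m + ff (m ^ 2 ^ k) (m ^ 2 ^ (2 * k + 1)) := by
  have h2 : (2 : K) = 0 := CharTwo.two_eq_zero
  have e1 := A_sq k (ff (m ^ 2 ^ k) m)
  have e2 : ff (m ^ 2 ^ k) m ^ 2 ^ k =
      hh (m ^ 2 ^ k) m ^ 2 ^ k + hh (m ^ 2 ^ k) (m ^ 2 ^ (2 * k + 1)) := by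
    rw [ff_eq hs, fr_add, hh_pow k m]
    congr 2
    rw [← pow_mul, ← pow_mul]; congr 1; ring
  have e3 : (hh (m ^ 2 ^ k) m ^ 2 ^ k) ^ 2 = hh (m ^ 2 ^ (2 * k + 1)) ((m ^ 2 ^ k) ^ 2) := by
    rw [← pow_mul, ← pow_succ, hh_pow]
    congr 1
    · rw [← pow_mul]; congr 1; ring
    · rw [← pow_mul, ← pow_succ]
  rw [ff_eq hs', gg]
  linear_combination e1 + e2 + e3 + (A k (ff (m ^ 2 ^ k) m) * hh (m ^ 2 ^ k) m ^ 2 ^ k +
    A k (ff (m ^ 2 ^ k) m) + 2 * hh (m ^ 2 ^ k) m ^ 2 ^ k + 1) * h2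

end field

end CL.BG.SzS
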