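import Cfsg.Agent.FGS.BG.SzV2
import Cfsg.Agent.FGS.BG.SLx
import Cfsg.Agent.FGS.VN.SzE
import Cfsg.Agent.FGS.VN.Defs
import Cfsg.Agent.CHEV.SzConcrete

/-! The Suzuki case of S3935. -/

set_option autoImplicit false
set_option linter.unusedSimpArgs false
set_option linter.unusedSectionVars false

namespace CL.BG.SzV

open Matrix CL.Sz

variable {F : Type*} [Field F] [CharP F 2] {θ : F →+* F} {G : Type*} [Group G] (M : Model θ G)

theorem ev_add (p r : F) (a b : Ex) : (a + b).ev p r = a.ev p r + b.ev p r := rfl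
theorem ev_mul (p r : F) (a b : Ex) : (a * b).ev p r = a.ev p r * b.ev p r := rfl

theorem rho_u {x X y y' N : F} (hX : θ x = X) (hy : x * X + y = y') (hN : ov θ x y = N) :
    M.ρ (M.u x y) = Um x X y y' N ∧ M.ρ (M.u x y)⁻¹ = Um x X y' y N := by
  have h : M.ρ (M.u x y) = Um x X y y' N := by rw [M.ρ_u, uMat, hN, hX, hy, Um]
  refine ⟨h, ?_⟩
  rw [M.ρ_inv, h]
  ext i j
  rw [mul_J_apply, J_mul_apply, transpose_apply]
  fin_cases i <;> fin_cases j <;> rfl

include M in
theorem ni {p η : F} (p0 : p ≠ 0) (p1 : p ≠ 1) (hE : 1 + θ p + p ^ 2 ≠ 0)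
    (h : (θ η + η + 1) * (p * (1 + θ p + p ^ 2)) = θ p * (1 + p)) : Red.NI G := by
  have h2 : (2 : F) = 0 := CharTwo.two_eq_zero
  obtain ⟨r, hr⟩ : ∃ r, θ p = r := ⟨_, rfl⟩
  have hr' : θ r = p * p := by rw [← hr, M.tits, sq]
  rw [hr] at hE h
  have hη : θ η * (p * (1 + r + p ^ 2)) = r * (1 + p) + (η + 1) * (p * (1 + r + p ^ 2)) := by
    linear_combination h - ((η + 1) * (p * (1 + r + p ^ 2))) * h2
  have r0 : r ≠ 0 := by rw [← hr]; exact (map_ne_zero θ).2 p0
  have te : θ (xe.ev p r) = xf.ev p r := by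
    simp only [xe, xf, ev_add, ev_mul, Ex.ev, map_add, map_one, hr, hr']
  have tf : θ (xf.ev p r) = xe.ev p r * xe.ev p r := by
    simp only [xe, xf, ev_add, ev_mul, Ex.ev, map_add, map_mul, map_one, hr, hr']
    linear_combination (-p - r - p * r) * h2
  have f0 : xf.ev p r ≠ 0 := by simpa only [xf, ev_add, ev_mul, Ex.ev, sq] using hE
  have e0 : xe.ev p r ≠ 0 := fun e => f0 (by rw [← te, e, map_zero])
  have tG : θ (xG.ev p r) = xD.ev p r := by
    simp only [xG, xD, ev_add, ev_mul, Ex.ev, map_add, map_mul, hr, hr', te, tf]; ring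
  have tD : θ (xD.ev p r) = xG.ev p r * xG.ev p r := by
    simp only [xG, xD, ev_add, ev_mul, Ex.ev, map_add, map_mul, hr, hr', te, tf]
    linear_combination (-(p * xf.ev p r * r * xe.ev p r)) * h2
  have G0 : xG.ev p r ≠ 0 := fun e => by
    have e' : xD.ev p r = 0 := by rw [← tG, e, map_zero]
    simp only [xG, xD, ev_add, ev_mul, Ex.ev] at e e'
    have e1 : r * xe.ev p r * (1 + r) = 0 := by
      have : xe.ev p r = 1 + p + r := rfl
      linear_combination e' - p * e - (r * xe.ev p r) * this + (r * xe.ev p r * (1 + r)) * h2 - r * xe.ev p r * (1 + r) * h2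
    have e2 : r = 1 := by
      have := (mul_eq_zero.1 e1).resolve_left (mul_ne_zero r0 e0)
      linear_combination this - h2
    exact p1 (θ.injective (by rw [hr, e2, map_one]))
  have D0 : xD.ev p r ≠ 0 := by rw [← tG]; exact (map_ne_zero θ).2 G0
  have ta : θ (xa.ev p r) = xA.ev p r := by
    simp only [xa, xA, ev_mul, Ex.ev, map_mul, hr, tf]
  have tA : θ (xA.ev p r) = xa.ev p r * xa.ev p r := by rw [← ta, M.tits, sq]
  have ts : θ (xs.ev p r) = xN.ev p r := by
    simp only [xs, xN, ev_add, ev_mul, Ex.ev, map_add, map_mul, map_one, hr, hr', te, tf, tD]; ring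
  have tk : θ (xk.ev p r) = xK.ev p r := by
    simp only [xk, xK, ev_add, ev_mul, Ex.ev, map_add, map_mul, map_one, hr, hr', tA]; ring
  obtain ⟨z, hz⟩ : ∃ z, θ z = xs.ev p r + r * xe.ev p r * z + xa.ev p r * xA.ev p r := by
    refine ⟨p * p * r * xe.ev p r * xf.ev p r * η + (r * r * r * r + p * r * r * r + p * p * p * r * r +
      r * r + p * p * r + p * r + p * p * p * (p * p * p + p * p + p + 1)), ?_⟩
    simp only [map_add, map_mul, map_one, hr, hr', te, tf]
    have : xf.ev p r = 1 + r + p ^ 2 := by simp only [xf, ev_add, ev_mul, Ex.ev, sq]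
    rw [← this] at hη
    have k : r * r * r * p * (xe.ev p r * xe.ev p r) * (1 + p) + (p * p * (p * p) * (p * p) * (p * p) +
        r * (p * p) * (p * p) * (p * p) + r * r * r * (p * p) * (p * p) + p * p * (p * p) +
        r * r * (p * p) + r * (p * p) + r * r * r * (r * r * r + r * r + r + 1)) = xs.ev p r +
        r * xe.ev p r * (r * r * r * r + p * r * r * r + p * p * p * r * r +
        r * r + p * p * r + p * r + p * p * p * (p * p * p + p * p + p + 1)) := by
      simp only [xs, xD, xe, xf, ev_add, ev_mul, Ex.ev]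
      grind
    simp only [xa, xA, ev_mul, Ex.ev]
    linear_combination (r * r * p * (xe.ev p r * xe.ev p r)) * hη + k
  have hz2 : z ^ 2 = xal.ev p r * z + xbe.ev p r := by
    rw [← M.tits, hz]
    simp only [map_add, map_mul, ts, hr', te, hz, ta, tA, xal, xbe, ev_add, ev_mul, Ex.ev]
    have : xa.ev p r = p * (p * xf.ev p r) := rfl
    linear_combination (-(xs.ev p r + r * xe.ev p r * z + xa.ev p r * xA.ev p r)) * this +
      (xa.ev p r * xa.ev p r * xA.ev p r) * h2
  have S := sound hz2 chk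
  obtain ⟨u1, u2⟩ := rho_u M (y := ee p r z zb) (y' := ee p r z zb') (N := ee p r z (xN, .zero)) ta
    (by simp only [ee, zb, zb', ev_add, ev_mul]; ring) (by
      simp only [ov, ee, zb, map_add, map_mul, ts, hr', te, hz, ta, ev_mul, Ex.ev]
      have : xa.ev p r = p * (p * xf.ev p r) := rfl
      linear_combination (-(xs.ev p r + r * xe.ev p r * z + xa.ev p r * xA.ev p r)) * this +
        (xa.ev p r * (xs.ev p r + r * xe.ev p r * z + xa.ev p r * xA.ev p r)) * h2)
  obtain ⟨c1, c2⟩ := rho_u M (X := (xG * xG).ev p r) (y := ee p r z zd) (y' := ee p r z zd')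
    (N := ee p r z zM) tD
    (by simp only [ee, zd, zd', ev_add, ev_mul]; ring) (by
      simp only [ov, ee, zd, zM, xd1, map_add, map_mul, map_one, hr, tk, tD, te, hz, ev_add, ev_mul,
        Ex.ev]
      ring)
  obtain ⟨l, hl⟩ : ∃ l : Fˣ, (l : F) = xl'.ev p r := ⟨Units.mk0 _ (mul_ne_zero p0 D0), rfl⟩
  have tl : θ (xl'.ev p r) = xL.ev p r := by
    simp only [xl', xL, ev_mul, Ex.ev, map_mul, hr, tD]
  have l0 : xl'.ev p r ≠ 0 := hl ▸ l.ne_zero
  have L0 : xL.ev p r ≠ 0 := by rw [← tl]; exact (map_ne_zero θ).2 l0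
  have n1 : on.mat p r z = (xL.ev p r * xl'.ev p r) • M.ρ (M.h l * M.w) := by
    rw [map_mul, M.ρ_h, M.ρ_w, hl, hMat, tl]
    simp only [on, Op.mat, ev_mul]
    generalize xL.ev p r = L at L0 ⊢
    generalize xl'.ev p r = t at l0 ⊢
    ext i j
    fin_cases i <;> fin_cases j <;>
      simp [Dm, Cfsg.suzukiForm, Matrix.mul_apply, Fin.sum_univ_four] <;> field_simp
  have nn : M.h l * M.w * (M.h l * M.w) = 1 := by
    rw [mul_assoc, ← mul_assoc M.w, M.w_h_w, ← map_mul, mul_inv_cancel, map_one]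
  have ne : M.u (xD.ev p r) (ee p r z zd) * (M.h l * M.w * M.u (xa.ev p r) (ee p r z zb) *
      (M.h l * M.w * M.u (xa.ev p r) (ee p r z zb))) ≠ 1 := fun e => by
    have e1 : M.h l * M.w * M.u (xa.ev p r) (ee p r z zb) * (M.h l * M.w) =
        (M.u (xa.ev p r) (ee p r z zb) * M.u (xD.ev p r) (ee p r z zd))⁻¹ := by
      rw [eq_inv_of_mul_eq_one_left e]; group
    rw [M.u_mul, M.u_inv] at e1
    have e2 := congrArg (fun g => M.ρ g 3 2) e1
    simp only [map_mul, M.ρ_h, M.ρ_w, M.ρ_u, hl, hMat, tl] at e2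
    simp [uMat, Cfsg.suzukiForm, Matrix.mul_apply, Fin.sum_univ_four, l0, L0] at e2
    exact mul_ne_zero p0 (mul_ne_zero p0 f0) e2
  have c4 := M.u_pow_four (xD.ev p r) (ee p r z zd)
  generalize M.h l * M.w = n at n1 nn ne
  generalize M.u (xa.ev p r) (ee p r z zb) = u at u1 u2 ne
  generalize M.u (xD.ev p r) (ee p r z zd) = c at c1 c2 ne c4
  have R : c⁻¹ * (n * (u * (c * (u⁻¹ * (n * (u⁻¹ * (n * (c * c)))))))) =
      u⁻¹ * (n * (c⁻¹ * (n * (u * (n * u))))) := by
    apply M.inj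
    simp only [List.map_cons, List.map_nil, List.prod_cons, List.prod_nil, mul_one, n1] at S
    simp only [ou, oui, oc, oci, Op.mat, ← u1, ← u2, ← c1, ← c2, Matrix.smul_mul,
      Matrix.mul_smul] at S
    have k0 := mul_ne_zero L0 l0
    simp only [map_mul]
    exact smul_right_injective _ k0 (smul_right_injective _ k0 (smul_right_injective _ k0 S))
  have ni : n⁻¹ = n := inv_eq_of_mul_eq_one_right nn
  have Rl : VN.Rel (n * u) c := by
    have cc : c * c = (c * c)⁻¹ := eq_inv_of_mul_eq_one_left (by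
      rw [← c4]; simp only [pow_succ, pow_zero, one_mul, mul_assoc])
    rw [VN.Rel]
    calc c * (n * u) * c⁻¹ * (n * u) * c
        = c * n * u * (c⁻¹ * (n * (u * (c * (u⁻¹ * (n⁻¹ * (u⁻¹ * (n⁻¹ * (c * c))))))))) *
          (c * c)⁻¹ * (n * u * (n * u)) := by group
      _ = c * n⁻¹ * u * (u⁻¹ * (n * (c⁻¹ * (n * (u * (n * u)))))) * (c * c) * (n * u * (n * u)) := by
          rw [ni, R, ← cc]
      _ = _ := by group
  exact fun k => ⟨n * u, n * u * c, fun e => ne (inv_eq_one.1 ((Rl.sq_eq k).symm.trans e))⟩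

theorem hz (F : Type) [Field F] [Fintype F] (m : ℕ) (hm : 1 ≤ m)
    (hF : Fintype.card F = 2 ^ (2 * m + 1)) : Red.NI (Cfsg.Lie.Sz F (2 ^ (m + 1))) := by
  have := charP_two hF
  obtain ⟨x, y, h0, h1, hE, h⟩ := VN.exists_sz hm hF
  exact ni (lieModel hF) h0 h1 (by rwa [theta_apply]) (η := y) (by rwa [theta_apply, theta_apply])

end CL.BG.SzV
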