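import Mathlib

/-! Kernel reflection for `4 × 4` matrix identities over `𝔽₂[p, r][z] / (z² = α z + β)`. -/

set_option autoImplicit false

namespace CL.BG.SzV

open Matrix

/-- expressions in `p`, `r` -/
inductive Ex
  | zero | one | p | r
  | add (a b : Ex) | mul (a b : Ex)

instance : Add Ex := ⟨Ex.add⟩
instance : Mul Ex := ⟨Ex.mul⟩

/-- xor of lists -/
def xl : List ℕ → List ℕ → List ℕ
  | [], m => m
  | a :: l, [] => a :: l
  | a :: l, b :: m => (a ^^^ b) :: xl l m

/-- multiply by an expression -/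
def Ex.ml : Ex → List ℕ → List ℕ
  | .zero, _ => []
  | .one, l => l
  | .p, l => l.map (fun n => 2 * n)
  | .r, l => 0 :: l
  | .add a b, l => xl (a.ml l) (b.ml l)
  | .mul a b, l => a.ml (b.ml l)

abbrev Pz := List ℕ × List ℕ
abbrev Ez := Ex × Ex

def az (x y : Pz) : Pz := (xl x.1 y.1, xl x.2 y.2)
def mz (al be : Ex) (e : Ez) (x : Pz) : Pz :=
  (xl (e.1.ml x.1) (be.ml (e.2.ml x.2)), xl (xl (e.1.ml x.2) (e.2.ml x.1)) (al.ml (e.2.ml x.2)))
def m0 (e : Ex) (x : Pz) : Pz := (e.ml x.1, e.ml x.2)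

structure V4 where
  (x0 x1 x2 x3 : Pz)

inductive Op
  | U (x X : Ex) (y y' N : Ez)
  | D (d0 d1 d2 : Ex)

def Op.ap (al be : Ex) : Op → V4 → V4
  | .U x X y y' N, v =>
    ⟨az (az v.x0 (m0 x v.x1)) (az (mz al be y' v.x2) (mz al be N v.x3)),
      az (az v.x1 (m0 X v.x2)) (mz al be y v.x3), az v.x2 (m0 x v.x3), v.x3⟩
  | .D d0 d1 d2, v => ⟨m0 d0 v.x3, m0 d1 v.x2, m0 d2 v.x1, v.x0⟩

def run (al be : Ex) : List Op → V4 → V4
  | [], v => v
  | o :: l, v => o.ap al be (run al be l v)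

def zl (l : List ℕ) : Bool := l.all (fun n => n == 0)
def zz (x y : Pz) : Bool := zl (xl x.1 y.1) && zl (xl x.2 y.2)
def zv (v w : V4) : Bool := zz v.x0 w.x0 && zz v.x1 w.x1 && zz v.x2 w.x2 && zz v.x3 w.x3
def bv (j : Fin 4) : V4 :=
  ⟨(if j = 0 then [1] else [], []), (if j = 1 then [1] else [], []),
    (if j = 2 then [1] else [], []), (if j = 3 then [1] else [], [])⟩

variable {F : Type*} [Field F] (p r z : F)

def e1 (n : ℕ) : F := if h : n = 0 then 0 else ((n % 2 : ℕ) : F) + p * e1 (n / 2)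
decreasing_by omega

theorem e1_eq (n : ℕ) : e1 p n = ((n % 2 : ℕ) : F) + p * e1 p (n / 2) := by
  by_cases h : n = 0
  · subst h; rw [e1]; simp
  · rw [e1, dif_neg h]

theorem e1_zero : e1 p 0 = 0 := by rw [e1]; simp
theorem e1_one : e1 p 1 = 1 := by rw [e1_eq]; simp [e1_zero]
theorem e1_two (n : ℕ) : e1 p (2 * n) = p * e1 p n := by
  rw [e1_eq]; simp

def e2 : List ℕ → F
  | [] => 0
  | a :: l => e1 p a + r * e2 l

def Ex.ev : Ex → F
  | .zero => 0
  | .one => 1
  | .p => p
  | .r => r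
  | .add a b => a.ev + b.ev
  | .mul a b => a.ev * b.ev

def ez (x : Pz) : F := e2 p r x.1 + e2 p r x.2 * z
def ee (e : Ez) : F := e.1.ev p r + e.2.ev p r * z
def ev (v : V4) : Fin 4 → F := ![ez p r z v.x0, ez p r z v.x1, ez p r z v.x2, ez p r z v.x3]

def Um (x X y y' N : F) : Matrix (Fin 4) (Fin 4) F :=
  !![1, x, y', N; 0, 1, X, y; 0, 0, 1, x; 0, 0, 0, 1]
def Dm (a b c : F) : Matrix (Fin 4) (Fin 4) F :=
  !![0, 0, 0, a; 0, 0, b, 0; 0, c, 0, 0; 1, 0, 0, 0]

def Op.mat : Op → Matrix (Fin 4) (Fin 4) F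
  | .U x X y y' N => Um (x.ev p r) (X.ev p r) (ee p r z y) (ee p r z y') (ee p r z N)
  | .D a b c => Dm (a.ev p r) (b.ev p r) (c.ev p r)

theorem e2_zl {l : List ℕ} (h : zl l = true) : e2 p r l = 0 := by
  induction l with
  | nil => rfl
  | cons a l ih =>
    simp only [zl, List.all_cons, Bool.and_eq_true, beq_iff_eq] at h ih
    rw [e2, h.1, e1_zero, ih h.2]; simp

variable [CharP F 2]

theorem e1_xor (n : ℕ) : ∀ m, e1 p (n ^^^ m) = e1 p n + e1 p m := by
  induction n using Nat.strong_induction_on with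
  | _ n ih =>
    intro m
    by_cases h : n = 0
    · subst h; simp [e1_zero]
    rw [e1_eq p (n ^^^ m), e1_eq p n, e1_eq p m, Nat.xor_div_two, ih _ (by omega)]
    have h2 : (2 : F) = 0 := CharTwo.two_eq_zero
    have : (((n ^^^ m) % 2 : ℕ) : F) = ((n % 2 : ℕ) : F) + ((m % 2 : ℕ) : F) := by
      rw [Nat.xor_mod_two_eq]
      rcases Nat.mod_two_eq_zero_or_one n with a | a <;>
        rcases Nat.mod_two_eq_zero_or_one m with b | b <;> rw [Nat.add_mod, a, b] <;> simp
      linear_combination -h2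
    rw [this]; ring

theorem e2_xl (l : List ℕ) : ∀ m, e2 p r (xl l m) = e2 p r l + e2 p r m := by
  induction l with
  | nil => intro m; simp [xl, e2]
  | cons a l ih =>
    intro m
    cases m with
    | nil => simp [xl, e2]
    | cons b m => simp only [xl, e2, ih, e1_xor]; ring

theorem e2_ml (e : Ex) : ∀ l, e2 p r (e.ml l) = e.ev p r * e2 p r l := by
  induction e with
  | zero => intro l; simp [Ex.ml, Ex.ev, e2]
  | one => intro l; simp [Ex.ml, Ex.ev]
  | p =>
    intro l
    simp only [Ex.ml, Ex.ev]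
    induction l with
    | nil => simp [e2]
    | cons a l ih => simp only [List.map_cons, e2, ih, e1_two]; ring
  | r => intro l; simp [Ex.ml, Ex.ev, e2, e1_zero]
  | add a b iha ihb => intro l; simp only [Ex.ml, Ex.ev, e2_xl, iha, ihb]; ring
  | mul a b iha ihb => intro l; simp only [Ex.ml, Ex.ev, iha, ihb]; ring

theorem ez_az (x y : Pz) : ez p r z (az x y) = ez p r z x + ez p r z y := by
  simp only [ez, az, e2_xl]; ring
theorem ez_m0 (e : Ex) (x : Pz) : ez p r z (m0 e x) = e.ev p r * ez p r z x := by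
  simp only [ez, m0, e2_ml]; ring

theorem ez_zz {x y : Pz} (h : zz x y = true) : ez p r z x = ez p r z y := by
  simp only [zz, Bool.and_eq_true] at h
  have h1 := e2_zl p r h.1
  have h2 := e2_zl p r h.2
  rw [e2_xl, CharTwo.add_eq_zero] at h1 h2
  rw [ez, ez, h1, h2]

variable {p r z} {al be : Ex} (hz : z ^ 2 = al.ev p r * z + be.ev p r)
include hz

theorem ez_mz (e : Ez) (x : Pz) : ez p r z (mz al be e x) = ee p r z e * ez p r z x := by
  simp only [ez, ee, mz, e2_ml, e2_xl]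
  linear_combination (-(e.2.ev p r * e2 p r x.2)) * hz

theorem ev_ap (o : Op) (v : V4) : ev p r z (o.ap al be v) = o.mat p r z *ᵥ ev p r z v := by
  cases o <;> ext i <;> fin_cases i <;>
    simp [ev, Op.ap, Op.mat, Um, Dm, ez_az, ez_m0, ez_mz hz, mulVec, dotProduct, Fin.sum_univ_four,
      add_assoc]

theorem ev_run (l : List Op) (v : V4) :
    ev p r z (run al be l v) = (l.map (Op.mat p r z)).prod *ᵥ ev p r z v := by
  induction l with
  | nil => simp [run]
  | cons o l ih => rw [run, ev_ap hz, ih, List.map_cons, List.prod_cons, mulVec_mulVec]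

theorem sound {l l' : List Op} (h : ∀ j, zv (run al be l (bv j)) (run al be l' (bv j)) = true) :
    (l.map (Op.mat p r z)).prod = (l'.map (Op.mat p r z)).prod := by
  have hb : ∀ j, ev p r z (bv j) = Pi.single j 1 := fun j => by
    ext i; fin_cases i <;> fin_cases j <;> simp [ev, bv, ez, e2, e1_one]
  ext i j
  have h1 := h j
  simp only [zv, Bool.and_eq_true] at h1
  have : ev p r z (run al be l (bv j)) = ev p r z (run al be l' (bv j)) := by
    simp only [ev, ez_zz p r z h1.1.1.1, ez_zz p r z h1.1.1.2, ez_zz p r z h1.1.2,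
      ez_zz p r z h1.2]
  rw [ev_run hz, ev_run hz, hb, mulVec_single_one, mulVec_single_one] at this
  exact congrFun this i

end CL.BG.SzV
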