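import Cfsg.Agent.FGS.BG.SzV1

/-! The Suzuki matrices of S3935: the kernel check. -/

set_option autoImplicit false

namespace CL.BG.SzV

open Ex

def xe : Ex := one + p + r
def xf : Ex := one + r + p * p
def xG : Ex := p * xf + r * xe
def xD : Ex := p * (p * xf) + r * (xe * xe)
def xa : Ex := p * (p * xf)
def xA : Ex := r * (r * (xe * xe))
def xs : Ex := p * (xD * (p * xf + r * (xe * (one + p))))
def xN : Ex := r * (xG * (xG * (p * (p * (xf * (one + r))) + r * (xe * xe))))
def xk : Ex := r * (r * (one + r * (one + r))) + r * (one + p * (one + p * (one + p * (one + p)))) +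
  p * (one + p * (p * (p * (one + p * (one + p))))) + xA
def xK : Ex := p * (p * (p * (p * (one + p * (p * (one + p * p)))))) +
  p * (p * (one + r * (one + r * (one + r * (one + r))))) +
  r * (one + r * (r * (r * (one + r * (one + r))))) + xa * xa
def xd1 : Ex := (one + p * p) * xe
def xL : Ex := r * (xG * xG)
def xl' : Ex := p * xD
def zb : Ez := (xs, r * xe)
def zb' : Ez := (xs + xa * xA, r * xe)
def zd : Ez := (xD * xk, xd1)
def zd' : Ez := (xD * (xk + xG * xG), xd1)
def zM : Ez := (xD * (xD * (xG * xG + xk)) + xG * (xG * xK) + (one + r * r) * (xf * (xs + xa * xA)),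
  xD * xd1 + (one + r * r) * (xf * (r * xe)))
def ou : Op := .U xa xA zb zb' (xN, zero)
def oui : Op := .U xa xA zb' zb (xN, zero)
def oc : Op := .U xD (xG * xG) zd zd' zM
def oci : Op := .U xD (xG * xG) zd' zd zM
def on : Op := .D (xL * (xL * (xl' * xl'))) (xL * (xl' * xl')) xL
def xal : Ex := xa * (r * xe)
def xbe : Ex := xa * xs + xN

theorem chk : ∀ j, zv (run xal xbe [oci, on, ou, oc, oui, on, oui, on, oc, oc] (bv j))
    (run xal xbe [oui, on, oci, on, ou, on, ou] (bv j)) = true := by
  decide +kernel

end CL.BG.SzV
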